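import Groth.Agent.EtQC.Glob.MV
import Groth.Agent.EtQC.Cartan
import Groth.Agent.AlgSpDec.NeatOn
import Groth.Agent.AlgSpDec.PointsConstr

/-!
# Open parts of the final object and of objects, and the squares they form
-/

set_option autoImplicit false
set_option backward.isDefEq.respectTransparency false
set_option backward.isDefEq.respectTransparency.types false

universe u

set_option maxHeartbeats 800000

open CategoryTheory CategoryTheory.Limits AlgebraicGeometry Opposite Abelian AlgSp TopologicalSpace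
open Groth.Agent.AlgSpLib Groth.Agent.AlgSpPts Groth.Agent.AlgSpDec Groth.Agent.AlgSpDec.Neat

namespace Groth.Agent.EtQC.Glob

variable {S : Scheme.{u}} {X : Sp S}

/-- The point of `X` under a point of an object. -/
noncomputable abbrev pt (E : EtOver X) (x : ↥E.obj.left.left) : Points X := Points.ofPt E.obj.hom x

theorem pt_map {E E' : EtOver X} (a : E' ⟶ E) (x : ↥E'.obj.left.left) : pt E (a.hom.left.left x) = pt E' x := by
  rw [pt, pt, ← ofPt_comp, EtOver.w]

/-- A proof that an object lies over a set of points. -/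
structure InEl (O : Set (Points X)) (E : EtOver X) : Type (u + 1) where
  mem : ∀ x, pt E x ∈ O

instance (O : Set (Points X)) (E : EtOver X) : Subsingleton (InEl O E) := ⟨fun ⟨_⟩ ⟨_⟩ => rfl⟩

/-- The part of the final object over a set of points. -/
noncomputable def inO (O : Set (Points X)) : (EtOver X)ᵒᵖ ⥤ Type (u + 1) where
  obj E := InEl O E.unop
  map a := ↾fun h => ⟨fun x => pt_map a.unop x ▸ h.mem (a.unop.hom.left.left x)⟩
  map_id _ := rfl
  map_comp _ _ := rfl

instance (O : Set (Points X)) (E : (EtOver X)ᵒᵖ) : Subsingleton ((inO O).obj E) :=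
  inferInstanceAs (Subsingleton (InEl O E.unop))

/-- A map into an object with image in a set. -/
@[ext]
structure SubEl (V : EtOver X) (W : Set ↥V.obj.left.left) (E : EtOver X) : Type (u + 1) where
  hom : E ⟶ V
  mem : ∀ x, hom.hom.left.left x ∈ W

/-- The part of an object over an open of it. -/
noncomputable def sub (V : EtOver X) (W : Set ↥V.obj.left.left) : (EtOver X)ᵒᵖ ⥤ Type (u + 1) where
  obj E := SubEl V W E.unop
  map a := ↾fun f => ⟨a.unop ≫ f.hom, fun x => f.mem (a.unop.hom.left.left x)⟩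
  map_id E := by
    refine ConcreteCategory.hom_ext _ _ fun f => ?_
    exact SubEl.ext (Category.id_comp _)
  map_comp a b := by
    refine ConcreteCategory.hom_ext _ _ fun f => ?_
    exact SubEl.ext (Category.assoc _ _ _)

/-- Inclusions of parts of an object. -/
noncomputable def subMap (V : EtOver X) {W W' : Set ↥V.obj.left.left} (h : W ⊆ W') : sub V W ⟶ sub V W' where
  app E := ↾fun f => (⟨SubEl.hom f, fun x => h (SubEl.mem f x)⟩ : SubEl V W' E.unop)

theorem subMap_injective (V : EtOver X) {W W' : Set ↥V.obj.left.left} (h : W ⊆ W') (E : (EtOver X)ᵒᵖ) :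
    Function.Injective ((subMap V h).app E) := fun f g e =>
  SubEl.ext (congrArg (fun t : SubEl V W' E.unop => t.hom) e)

/-- The open subobject over an open. -/
theorem etOpen_lift {E : EtOver X} (O : E.obj.left.left.Opens) (x : ↥(AlgSpDec.etOpen E O).obj.left.left) :
    (AlgSpDec.etOpenι E O).hom.left.left x ∈ (O : Set ↥E.obj.left.left) := by
  rw [← AlgSpDec.range_etOpenι E O]
  exact ⟨x, rfl⟩

/-- The open part of the final object inside an object. -/
abbrev preO (E : EtOver X) {O : Set (Points X)} (hO : IsOpen O) : E.obj.left.left.Opens :=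
  ⟨pt E ⁻¹' O, hO.preimage (Points.continuous_ofPt _)⟩

/-- Two maps to a neat neighbourhood agree near points outside the open. -/
theorem exists_nbhd_eq {O : Set (Points X)} {V : EtOver X}
    (hn : NeatOn V.obj.hom (Set.range (Points.map V.obj.hom) \ O)) {E : EtOver X} (a b : E ⟶ V)
    (x : ↥E.obj.left.left) (hx : pt E x ∉ O) :
    ∃ (E' : EtOver X) (g : E' ⟶ E), g ≫ a = g ≫ b ∧ x ∈ Set.range g.hom.left.left := by
  let Tx : Over S := CategoryTheory.Over.mk (E.obj.left.left.fromSpecResidueField x ≫ E.obj.left.hom)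
  let c : Tx ⟶ E.obj.left := CategoryTheory.Over.homMk (E.obj.left.left.fromSpecResidueField x) rfl
  let t : (yon S).obj Tx ⟶ X := (yon S).map c ≫ E.obj.hom
  have hred : IsReducedSp ((yon S).obj Tx) := by
    refine ⟨Tx, 𝟙 _, repWith_id @Etale Tx, ?_, inferInstanceAs (IsReduced (Spec _))⟩
    exact repWith_id @Surjective Tx
  have hr : Set.range (Points.map t) ⊆ Set.range (Points.map V.obj.hom) \ O := by
    rintro _ ⟨p, rfl⟩
    obtain ⟨k, rfl⟩ := (Points.schemeHomeo Tx).surjective p
    have e : Points.map t (Points.schemeHomeo Tx k) = pt E x := by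
      show Points.map t (Points.ofScheme Tx k) = _
      rw [← Points.ofPt_eq_map_ofScheme, ofPt_comp]
      refine congrArg (Points.ofPt E.obj.hom) ?_
      show E.obj.left.left.fromSpecResidueField x k = x
      exact Scheme.fromSpecResidueField_apply _ _
    rw [e]
    refine ⟨⟨Points.ofScheme _ (a.hom.left.left x), ?_⟩, hx⟩
    rw [← Points.ofPt_eq_map_ofScheme]
    exact pt_map a x
  haveI := hn ⟨_, IsAlgSpace.yon_obj Tx⟩ t hred hr
  have hw : ∀ f : E ⟶ V, 𝟙 _ ≫ t = (yon S).map (c ≫ f.hom.left) ≫ V.obj.hom := fun f => by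
    rw [Category.id_comp, Functor.map_comp, Category.assoc, EtOver.w]
  have hl : pullback.lift (f := t) (g := V.obj.hom) _ _ (hw a) = pullback.lift _ _ (hw b) := by
    refine (cancel_mono (pullback.fst t V.obj.hom)).1 ?_
    rw [pullback.lift_fst, pullback.lift_fst]
  have hc : c ≫ a.hom.left = c ≫ b.hom.left := (yon S).map_injective (by
    have := congrArg (· ≫ pullback.snd t V.obj.hom) hl
    simpa only [pullback.lift_snd] using this)
  obtain ⟨pair, hp1, hp2⟩ := BinaryFan.IsLimit.lift' (EtOver.prodIsLimit V V) a b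
  obtain ⟨Δ, hΔ1, hΔ2⟩ := BinaryFan.IsLimit.lift' (EtOver.prodIsLimit V V) (𝟙 V) (𝟙 V)
  have hp1' : pair ≫ EtOver.prodFst V V = a := hp1
  have hp2' : pair ≫ EtOver.prodSnd V V = b := hp2
  have hΔ1' : Δ ≫ EtOver.prodFst V V = 𝟙 V := hΔ1
  have hΔ2' : Δ ≫ EtOver.prodSnd V V = 𝟙 V := hΔ2
  refine ⟨EtOver.pullbackObj pair Δ, EtOver.pullbackFst pair Δ, ?_, ?_⟩
  · rw [← hp1', ← hp2']
    have e := EtOver.pullback_condition pair Δ
    rw [← Category.assoc, ← Category.assoc, e, Category.assoc, Category.assoc, hΔ1', hΔ2']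
  · have hcomm : c ≫ pair.hom.left = (c ≫ a.hom.left) ≫ Δ.hom.left := by
      refine V.property.1.hom_ext' ?_ ?_
      · rw [Category.assoc, Category.assoc]
        have e1 := congrArg (fun m => c ≫ m.hom.left) hp2'
        have e2 := congrArg (fun m => (c ≫ a.hom.left) ≫ m.hom.left) hΔ2'
        refine e1.trans (Eq.trans ?_ (e2.symm.trans (Category.assoc _ _ _)))
        exact hc.symm.trans (Category.comp_id _).symm
      · rw [Category.assoc, Category.assoc]
        have e1 := congrArg (fun m => c ≫ m.hom.left) hp1'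
        have e2 := congrArg (fun m => (c ≫ a.hom.left) ≫ m.hom.left) hΔ1'
        exact e1.trans ((Category.comp_id _).symm.trans (e2.symm.trans (Category.assoc _ _ _)))
    let l := (isPullback_left pair Δ).lift c.left (c ≫ a.hom.left).left
      (congrArg (fun m => m.left) hcomm)
    obtain ⟨k⟩ : Nonempty ↥Tx.left := inferInstanceAs (Nonempty ↥(Spec _))
    refine ⟨l k, ?_⟩
    rw [← Scheme.Hom.comp_apply, (isPullback_left pair Δ).lift_fst]
    exact Scheme.fromSpecResidueField_apply _ _

/-- Adding a neat neighbourhood to an open. -/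
noncomputable def squareAdd {O : Set (Points X)} (hO : IsOpen O) (V : EtOver X)
    (hn : NeatOn V.obj.hom (Set.range (Points.map V.obj.hom) \ O)) : Square X where
  β := inO (O ∪ Set.range (Points.map V.obj.hom))
  β₁ := inO O
  β₂ := sub V (⊤ : V.obj.left.left.Opens)
  β₀ := sub V (preO V hO)
  j₁ := { app := fun E => ↾fun h => (⟨fun x => Or.inl (InEl.mem h x)⟩ : InEl _ E.unop) }
  j₂ := { app := fun E => ↾fun f => (⟨fun x => Or.inr
    ⟨Points.ofScheme _ ((SubEl.hom f).hom.left.left x), by
      rw [← Points.ofPt_eq_map_ofScheme]; exact pt_map (SubEl.hom f) x⟩⟩ : InEl _ E.unop) }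
  i₁ := { app := fun E => ↾fun f => (⟨fun x => pt_map (SubEl.hom f) x ▸ SubEl.mem f x⟩ : InEl O E.unop) }
  i₂ := subMap V fun x _ => trivial
  comm := by ext E f; exact Subsingleton.elim _ _
  inj := subMap_injective V _
  inj₁ E := fun _ _ _ => Subsingleton.elim _ _
  pull E a b _ := ⟨(⟨SubEl.hom b, fun x => by
    show pt V _ ∈ O
    rw [pt_map]
    exact InEl.mem a x⟩ : SubEl V _ E), rfl⟩
  cover E h := by
    let P := EtOver.prodObj E V
    let Y : Bool → EtOver X := fun i => cond i (AlgSpDec.etOpen E (preO E hO)) P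
    let g : ∀ i, Y i ⟶ E := fun i => Bool.rec (motive := fun i => Y i ⟶ E) (EtOver.prodFst E V)
      (AlgSpDec.etOpenι E (preO E hO)) i
    refine ⟨Sieve.ofArrows Y g, AlgSpDec.ofArrows_mem_etTop Y g fun x => ?_, fun E' a ha => ?_⟩
    · rcases InEl.mem h x with hx | ⟨p, hp⟩
      · refine ⟨true, ?_⟩
        show x ∈ Set.range (AlgSpDec.etOpenι E (preO E hO)).hom.left.left
        rw [AlgSpDec.range_etOpenι]
        exact hx
      · obtain ⟨v, rfl⟩ := (Points.schemeHomeo V.obj.left).surjective p
        obtain ⟨r, -, hr⟩ := exists_ofPt_of_eq (V.property.1.isPullback' E.obj.hom)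
          (show Points.ofPt V.obj.hom v = Points.ofPt E.obj.hom x from
            (Points.ofPt_eq_map_ofScheme _ _).trans hp)
        exact ⟨false, r, hr⟩
    · obtain ⟨i, l, hl⟩ := (Sieve.mem_ofArrows_iff _ _ _).1 ha
      cases i
      · exact Or.inr ⟨(⟨l ≫ EtOver.prodSnd E V, fun _ => trivial⟩ : SubEl V ((⊤ : V.obj.left.left.Opens) : Set ↥V.obj.left.left) E'), Subsingleton.elim _ _⟩
      · exact Or.inl ⟨(⟨fun x => by
          rw [← pt_map (l ≫ AlgSpDec.etOpenι E (preO E hO)) x, pt]
          exact etOpen_lift (preO E hO) (l.hom.left.left x)⟩ : InEl O E'), Subsingleton.elim _ _⟩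
  diag E b b' _ := by
    have key : ∀ x : ↥E.obj.left.left, pt E x ∈ O ∨ ∃ (E' : EtOver X) (g : E' ⟶ E),
        g ≫ SubEl.hom b = g ≫ SubEl.hom b' ∧ x ∈ Set.range g.hom.left.left := fun x =>
      (Classical.em (pt E x ∈ O)).imp_right (exists_nbhd_eq hn _ _ x)
    let R : Sieve E :=
      { arrows := fun E' a => (∀ x, pt E' x ∈ O) ∨ a ≫ SubEl.hom b = a ≫ SubEl.hom b'
        downward_closed := fun {E' E''} a ha g => ha.imp
          (fun h x => pt_map g x ▸ h (g.hom.left.left x))
          (fun h => by rw [Category.assoc, Category.assoc, h]) }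
    refine ⟨R, ?_, fun E' a ha => ?_⟩
    · have key' : ∀ x : ↥E.obj.left.left, ∃ (E' : EtOver X) (g : E' ⟶ E), R g ∧ x ∈ Set.range g.hom.left.left :=
        fun x => by
          rcases key x with hx | ⟨E', g, hg, hgx⟩
          · exact ⟨_, AlgSpDec.etOpenι E (preO E hO), Or.inl fun y => by
              rw [← pt_map (AlgSpDec.etOpenι E (preO E hO)) y]; exact etOpen_lift (preO E hO) y,
              by rw [AlgSpDec.range_etOpenι]; exact hx⟩
          · exact ⟨E', g, Or.inr hg, hgx⟩
      choose Y g hg hgx using key'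
      refine (etTop X).superset_covering ?_ (AlgSpDec.ofArrows_mem_etTop Y g fun x => ⟨x, hgx x⟩)
      refine Sieve.generate_le_iff _ _ |>.2 ?_
      rintro T a ⟨x⟩
      exact hg x
    · rcases ha with h | h
      · exact Or.inr ⟨⟨(⟨a ≫ SubEl.hom b, fun x => by
            show pt V _ ∈ O
            rw [pt_map]; exact h x⟩ : SubEl V _ E'), rfl⟩,
          ⟨(⟨a ≫ SubEl.hom b', fun x => by
            show pt V _ ∈ O
            rw [pt_map]; exact h x⟩ : SubEl V _ E'), rfl⟩⟩
      · exact Or.inl (SubEl.ext h)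

/-- Two opens of an object. -/
noncomputable def squareOpens (V : EtOver X) (W A : V.obj.left.left.Opens) : Square X where
  β := sub V (W ⊔ A : V.obj.left.left.Opens)
  β₁ := sub V W
  β₂ := sub V A
  β₀ := sub V (W ⊓ A : V.obj.left.left.Opens)
  j₁ := subMap V (SetLike.coe_subset_coe.2 le_sup_left)
  j₂ := subMap V (SetLike.coe_subset_coe.2 le_sup_right)
  i₁ := subMap V (SetLike.coe_subset_coe.2 inf_le_left)
  i₂ := subMap V (SetLike.coe_subset_coe.2 inf_le_right)
  comm := rfl
  inj := subMap_injective V _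
  inj₁ := subMap_injective V _
  pull E a b h := by
    have e : SubEl.hom a = SubEl.hom b := congrArg (fun t : SubEl V ((W ⊔ A : V.obj.left.left.Opens) : Set ↥V.obj.left.left) E => t.hom) h
    exact ⟨(⟨SubEl.hom b, fun x => ⟨e ▸ SubEl.mem a x, SubEl.mem b x⟩⟩ : SubEl V ((W ⊓ A : V.obj.left.left.Opens) : Set ↥V.obj.left.left) E), rfl⟩
  cover E f := by
    let Y : Bool → EtOver X := fun i => AlgSpDec.etOpen E ((SubEl.hom f).hom.left.left ⁻¹ᵁ cond i W A)
    refine ⟨Sieve.ofArrows Y fun i => AlgSpDec.etOpenι E _, AlgSpDec.ofArrows_mem_etTop Y _ fun x => ?_,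
      fun E' a ha => ?_⟩
    · rcases SubEl.mem f x with hx | hx
      · exact ⟨true, by rw [AlgSpDec.range_etOpenι]; exact hx⟩
      · exact ⟨false, by rw [AlgSpDec.range_etOpenι]; exact hx⟩
    · obtain ⟨i, l, hl⟩ := (Sieve.mem_ofArrows_iff _ _ _).1 ha
      have hm : ∀ x, (SubEl.hom f).hom.left.left (a.hom.left.left x) ∈ (cond i W A : V.obj.left.left.Opens) :=
        fun x => by
          rw [hl]
          exact etOpen_lift ((SubEl.hom f).hom.left.left ⁻¹ᵁ cond i W A) (l.hom.left.left x)
      cases i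
      · exact Or.inr ⟨(⟨a ≫ SubEl.hom f, hm⟩ : SubEl V _ E'), rfl⟩
      · exact Or.inl ⟨(⟨a ≫ SubEl.hom f, hm⟩ : SubEl V _ E'), rfl⟩
  diag E b b' h := ⟨⊤, (etTop X).top_mem E, fun E' a _ => Or.inl (SubEl.ext
    (congrArg (a ≫ ·) (congrArg (fun t : SubEl V ((W ⊔ A : V.obj.left.left.Opens) : Set ↥V.obj.left.left) E => t.hom) h : SubEl.hom b = SubEl.hom b')))⟩

/-- An affine open of an object has no higher cohomology with acyclic coefficients. -/
theorem subsingleton_ext_affine (V : EtOver X) (A : V.obj.left.left.Opens) (hA : IsAffineOpen A) :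
    ∀ (n : ℕ) (G : AbEt X), IsAffAcyclic G → Subsingleton (Ext (zb (sub V A)) G (n + 1)) := by
  let E₀ := AlgSpDec.etOpen V A
  haveI : IsAffine E₀.obj.left.left := hA
  let e₀ : (sub V A).obj (op E₀) := (⟨AlgSpDec.etOpenι V A, etOpen_lift A⟩ : SubEl V _ E₀)
  have hu : ∀ (E : EtOver X) (b : (sub V A).obj (op E)), ∃ a : E ⟶ E₀, (sub V A).map a.op e₀ = b := fun E b => by
    have hr : Set.range (SubEl.hom b).hom.left.left ⊆ Set.range A.ι := by
      rw [Scheme.Opens.range_ι]
      rintro _ ⟨x, rfl⟩
      exact SubEl.mem b x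
    let k : E.obj.left ⟶ E₀.obj.left := CategoryTheory.Over.homMk (IsOpenImmersion.lift A.ι (SubEl.hom b).hom.left.left hr) (by
      show IsOpenImmersion.lift A.ι _ hr ≫ A.ι ≫ V.obj.left.hom = E.obj.left.hom
      rw [← Category.assoc, IsOpenImmersion.lift_fac]
      exact CategoryTheory.Over.w (SubEl.hom b).hom.left)
    have hk : k ≫ (AlgSpDec.etOpenι V A).hom.left = (SubEl.hom b).hom.left :=
      CategoryTheory.Over.OverMorphism.ext (IsOpenImmersion.lift_fac _ _ hr)
    refine ⟨EtOver.homMk k ?_, SubEl.ext (EtOver.hom_ext _ _ hk)⟩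
    rw [← EtOver.w (AlgSpDec.etOpenι V A), ← Category.assoc, ← Functor.map_comp, hk]
    exact EtOver.w (SubEl.hom b)
  choose lf hlf using hu
  intro n
  induction n with
  | zero =>
    intro G hG
    let T := ShortComplex.mk (Injective.ι G) (cokernel.π _) (cokernel.condition (Injective.ι G))
    have hT : T.ShortExact := { exact := ShortComplex.exact_of_g_is_cokernel _ (cokernelIsCokernel _) }
    refine subsingleton_of_forall_eq 0 fun x => ?_
    obtain ⟨z, rfl⟩ := Ext.covariant_sequence_exact₁ _ hT x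
      (haveI : Injective T.X₂ := inferInstanceAs (Injective (Injective.under G)); Ext.eq_zero_of_injective _)
      (rfl : 0 + 1 = 1)
    obtain ⟨φ, rfl⟩ := (Ext.mk₀_bijective _ _).2 z
    obtain ⟨s, hs⟩ := EtQC.sections_surjective T hT hG (V := E₀) (val φ E₀ e₀)
    have key : ∀ E b, (T.g.hom.app (op E)).hom ((T.X₂.obj.map (lf E b).op).hom s) = val φ E b := fun E b => by
      refine (ConcreteCategory.congr_hom (T.g.hom.naturality (lf E b).op) s).trans ?_
      refine (congrArg (T.X₃.obj.map (lf E b).op).hom hs).trans ?_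
      rw [← val_res, hlf]
    obtain ⟨ψ, hψ⟩ := exists_val (β := sub V A) (G := T.X₂) (fun E b => (T.X₂.obj.map (lf E b).op).hom s)
      fun E E' a b => by
        have e : lf E' ((sub V A).map a.op b) = a ≫ lf E b := by
          have h1 := congrArg SubEl.hom (hlf E' ((sub V A).map a.op b))
          have h2 := congrArg (fun t => a ≫ SubEl.hom t) (hlf E b)
          refine EtOver.hom_ext _ _ (CategoryTheory.Over.OverMorphism.ext ((cancel_mono A.ι).1 ?_))
          exact congrArg (fun m => m.hom.left.left) (h1.trans (h2.symm.trans (Category.assoc _ _ _).symm))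
        show (T.X₂.obj.map (lf E' _).op).hom s = _
        rw [e, op_comp, T.X₂.obj.map_comp]
        rfl
    have hφ : ψ ≫ T.g = φ := val_ext fun E b => by rw [val_comp, hψ, key]
    rw [← hφ, ← Ext.mk₀_comp_mk₀, Ext.comp_assoc_of_second_deg_zero, hT.comp_extClass, Ext.comp_zero]
  | succ n ih =>
    intro G hG
    let T := ShortComplex.mk (Injective.ι G) (cokernel.π _) (cokernel.condition (Injective.ι G))
    have hT : T.ShortExact := { exact := ShortComplex.exact_of_g_is_cokernel _ (cokernelIsCokernel _) }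
    haveI hI : Injective T.X₂ := inferInstanceAs (Injective (Injective.under G))
    refine subsingleton_of_forall_eq 0 fun x => ?_
    obtain ⟨z, rfl⟩ := Ext.covariant_sequence_exact₁ _ hT x (Ext.eq_zero_of_injective _) (rfl : (n + 1) + 1 = _)
    haveI := ih T.X₃ (EtQC.isAffAcyclic_X₃ T hT hG (EtQC.isAffAcyclic_of_injective T.X₂))
    rw [Subsingleton.elim z 0, Ext.zero_comp]

/-- A union of `k + 1` affine opens of a separated object has no cohomology from degree `k + 1` on. -/
theorem subsingleton_ext_union (V : EtOver X) [IsAffine V.obj.left.left] (G : AbEt X) (hG : IsAffAcyclic G) :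
    ∀ (k : ℕ) (A : Fin (k + 1) → V.obj.left.left.Opens), (∀ i, IsAffineOpen (A i)) →
      ∀ q, k + 1 ≤ q → Subsingleton (Ext (zb (sub V ((⨆ i, A i : V.obj.left.left.Opens) : Set ↥V.obj.left.left))) G q) := by
  intro k
  induction k with
  | zero =>
    intro A hA q hq
    obtain ⟨q, rfl⟩ := Nat.exists_eq_add_of_le' hq
    rw [show (⨆ i, A i) = A 0 from le_antisymm (iSup_le fun i => by rw [Fin.fin_one_eq_zero i]) (le_iSup A 0)]
    exact subsingleton_ext_affine V _ (hA 0) q G hG
  | succ k ih =>
    intro A hA q hq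
    obtain ⟨q, rfl⟩ := Nat.exists_eq_add_of_le' (show 1 ≤ q by omega)
    let W : V.obj.left.left.Opens := ⨆ i : Fin (k + 1), A i.succ
    have hU : (⨆ i, A i) = W ⊔ A 0 := by
      refine le_antisymm (iSup_le fun i => ?_) (sup_le (iSup_le fun i => le_iSup A i.succ) (le_iSup A 0))
      induction i using Fin.cases with
      | zero => exact le_sup_right
      | succ i => exact (le_iSup (fun i : Fin (k + 1) => A i.succ) i).trans le_sup_left
    rw [hU]
    refine (squareOpens V W (A 0)).subsingleton_ext G q (ih _ (fun i => hA _) _ (by omega))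
      (subsingleton_ext_affine V _ (hA 0) q G hG) ?_
    show Subsingleton (Ext (zb (sub V ((W ⊓ A 0 : V.obj.left.left.Opens) : Set ↥V.obj.left.left))) G q)
    rw [show W ⊓ A 0 = ⨆ i : Fin (k + 1), A i.succ ⊓ A 0 from iSup_inf_eq _ _]
    exact ih _ (fun i => (hA _).inf (hA 0)) q (by omega)

/-- A quasi-compact open of an affine object has cohomology in boundedly many degrees. -/
theorem exists_bound_sub (V : EtOver X) [IsAffine V.obj.left.left] (W : V.obj.left.left.Opens)
    (hW : IsCompact (W : Set ↥V.obj.left.left)) :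
    ∃ k : ℕ, ∀ (G : AbEt X), IsAffAcyclic G → ∀ q, k + 1 ≤ q → Subsingleton (Ext (zb (sub V W)) G q) := by
  choose A hA hxA hAW using fun x : W => exists_isAffineOpen_mem_and_subset (U := W) (x := x.1) x.2
  obtain ⟨t, ht⟩ := hW.elim_finite_subcover (fun x => (A x : Set ↥V.obj.left.left)) (fun x => (A x).isOpen)
    (fun x h => Set.mem_iUnion.2 ⟨⟨x, h⟩, hxA ⟨x, h⟩⟩)
  let A' : Fin (t.card + 1) → V.obj.left.left.Opens := Fin.cases ⊥ fun i => A (t.equivFin.symm i).1
  have hA' : ∀ i, IsAffineOpen (A' i) := fun i => by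
    induction i using Fin.cases with
    | zero => exact isAffineOpen_bot _
    | succ i => exact hA _
  have hU : (⨆ i, A' i) = W := by
    refine le_antisymm (iSup_le fun i => ?_) fun x hx => ?_
    · induction i using Fin.cases with
      | zero => exact bot_le
      | succ i => exact hAW _
    · obtain ⟨y, hy, hxy⟩ := Set.mem_iUnion₂.1 (ht hx)
      refine Opens.mem_iSup.2 ⟨(t.equivFin ⟨y, hy⟩).succ, ?_⟩
      show x ∈ A (t.equivFin.symm _).1
      simpa using hxy
  refine ⟨t.card, fun G hG q hq => ?_⟩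
  rw [← hU]
  exact subsingleton_ext_union V G hG t.card A' hA' q hq

end Groth.Agent.EtQC.Glob
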