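import Groth.Agent.EtQC.Glob.Site
import Groth.Agent.SiteBase.AbSecExact
import Groth.Agent.EtLC12.ExtColimGen
import Mathlib.Algebra.Homology.DerivedCategory.Ext.EnoughInjectives

/-!
# Cohomology of quasi-compact quasi-separated algebraic spaces commutes with filtered colimits
-/

set_option autoImplicit false
set_option backward.isDefEq.respectTransparency false
set_option backward.isDefEq.respectTransparency.types false

universe u

set_option maxHeartbeats 800000

open CategoryTheory CategoryTheory.Limits AlgebraicGeometry Opposite Abelian AlgSp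

namespace Groth.Agent.EtQC.Glob

variable {S : Scheme.{u}} {X : Sp S}

/-- No higher Cech cohomology for any covering by good objects. -/
def IsGood (G : AbEt X) : Prop := ∀ D : Cov (etTop X) (Qcqs (X := X)), D.Exact G.obj

theorem isGood_of_injective (G : AbEt X) [Injective G] : IsGood G := fun D => by
  haveI : Injective G.obj :=
    Injective.injective_of_adjoint (sheafificationAdjunction (etTop X) AddCommGrpCat.{u + 1}) G
  exact exact_of_injective D G.obj

theorem isSheaf_type (G : AbEt X) : Presieve.IsSheaf (etTop X) (G.obj ⋙ forget AddCommGrpCat.{u + 1}) :=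
  (isSheaf_iff_isSheaf_of_type _ _).1
    ((Presheaf.isSheaf_iff_isSheaf_forget (etTop X) G.obj (forget AddCommGrpCat.{u + 1})).1 G.property)

section Colim

variable {I : Type (u + 1)} [SmallCategory I] [IsFiltered I] (K : I ⥤ AbEt X)

theorem ι_w {i j : I} (a : i ⟶ j) : (K ⋙ sheafToPresheaf _ _).map a ≫ (colimit.ι K j).hom = (colimit.ι K i).hom :=
  congrArg (fun t => t.hom) (colimit.w K a)

theorem sections_colim (E : EtOver X) (hE : Qcqs E) :
    (∀ x : (colimit K).obj.obj (op E), ∃ (i : I) (y : (K.obj i).obj.obj (op E)),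
      ((colimit.ι K i).hom.app _).hom y = x) ∧
    (∀ (i : I) (y : (K.obj i).obj.obj (op E)), ((colimit.ι K i).hom.app _).hom y = 0 →
      ∃ (j : I) (a : i ⟶ j), ((K.map a).hom.app _).hom y = 0) := by
  haveI := preservesColimitsOfShape_sections E hE I
  let hc := isColimitOfPreserves (sheafToPresheaf (etTop X) AddCommGrpCat.{u + 1} ⋙
    (evaluation (EtOver X)ᵒᵖ AddCommGrpCat.{u + 1}).obj (op E)) (colimit.isColimit K)
  refine ⟨fun x => Concrete.isColimit_exists_rep _ hc x, fun i y hy => ?_⟩
  have h0 : ((colimit.ι K i).hom.app (op E)).hom y = ((colimit.ι K i).hom.app (op E)).hom 0 :=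
    hy.trans (map_zero _).symm
  obtain ⟨j, a, b, hab⟩ := Concrete.isColimit_exists_of_rep_eq _ hc y (0 : (K.obj i).obj.obj (op E)) h0
  exact ⟨j, a, hab.trans (map_zero _)⟩

theorem isGood_colimit (h : ∀ i, IsGood (K.obj i)) : IsGood (colimit K) := fun D =>
  exact_colimit (K ⋙ sheafToPresheaf _ _) (fun i => (colimit.ι K i).hom) (fun a => ι_w K a)
    (fun E hE => (sections_colim K E hE).1) (fun E hE => (sections_colim K E hE).2) fun i => h i D

end Colim

variable (T : ShortComplex (AbEt X)) (hT : T.ShortExact)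

include hT

theorem sec_injective (W : (EtOver X)ᵒᵖ) : Function.Injective (T.f.hom.app W).hom :=
  haveI := hT.mono_f
  SiteBase.sheaf_app_injective T.f W.unop

theorem sec_exact (W : (EtOver X)ᵒᵖ) (y : T.X₂.obj.obj W) (hy : (T.g.hom.app W).hom y = 0) :
    ∃ x, (T.f.hom.app W).hom x = y := by
  haveI := hT.mono_f
  exact (SiteBase.secExact_iff T W.unop).1 (hT.exact.map_of_mono_of_preservesKernel
    (sheafToPresheaf (etTop X) AddCommGrpCat.{u + 1} ⋙
      (evaluation (EtOver X)ᵒᵖ AddCommGrpCat.{u + 1}).obj W) inferInstance inferInstance) y hy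

omit hT in
theorem sec_zero (W : (EtOver X)ᵒᵖ) (x : T.X₁.obj.obj W) : (T.g.hom.app W).hom ((T.f.hom.app W).hom x) = 0 :=
  congrArg (fun t : T.X₁ ⟶ T.X₃ => (t.hom.app W).hom x) T.zero

/-- Sections over good objects lift when the kernel is good. -/
theorem sections_surjective (h1 : IsGood T.X₁) {V : EtOver X} (hV : Qcqs V) :
    Function.Surjective (T.g.hom.app (op V)).hom := by
  intro z
  haveI := hT.mono_f
  haveI := hT.epi_g
  haveI := hV.1
  have hloc : Presheaf.IsLocallySurjective (etTop X) T.g.hom :=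
    (Sheaf.isLocallySurjective_iff_epi' AddCommGrpCat.{u + 1} T.g).2 inferInstance
  obtain ⟨n, W, h, hW, hR, hc⟩ := exists_affine_refinement (hloc.imageSieve_mem (U := V) z)
  choose s hs using hR
  let D := covOf V hV W h (fun k => haveI := hW k; qcqs_of_isAffine _) hc
  obtain ⟨y, -, hy⟩ := exists_lift (D := D) T.f.hom T.g.hom (sec_injective T hT) (sec_exact T hT) (sec_zero T)
    (h1 D 0) (isSheaf_type _) (isSheaf_type _) (fun E b => (T.X₃.obj.map b.down.op).hom z)
    (fun E E' a b => by
      show (T.X₃.obj.map (a ≫ b.down).op).hom z = _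
      rw [op_comp, T.X₃.obj.map_comp]
      rfl)
    (fun k => s k) (fun k => hs k)
  exact ⟨y V ⟨𝟙 V⟩, (hy V ⟨𝟙 V⟩).trans (by simp)⟩

theorem isGood_X₃ (h1 : IsGood T.X₁) (h2 : IsGood T.X₂) : IsGood T.X₃ := fun D =>
  exact_quot T.f.hom T.g.hom (sec_injective T hT) (sec_exact T hT) (sec_zero T) (h1 D) (h2 D)
    fun _ hE => sections_surjective T hT h1 hE

omit hT T

section Global

/-- The constant sheaf of integers. -/
noncomputable abbrev zc (X : Sp S) : AbEt X :=
  (constantSheaf (etTop X) AddCommGrpCat.{u + 1}).obj (AddCommGrpCat.of (ULift.{u + 1} ℤ))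

/-- The family of sections of a map out of the integers. -/
noncomputable def glob {G : AbEt X} (φ : zc X ⟶ G) (E : EtOver X) : G.obj.obj (op E) :=
  AddCommGrpCat.uliftZMultiplesAddEquiv _
    (((sheafificationAdjunction (etTop X) AddCommGrpCat.{u + 1}).homEquiv _ _ φ).app (op E))

theorem glob_res {G : AbEt X} (φ : zc X ⟶ G) {E E' : EtOver X} (a : E' ⟶ E) :
    glob φ E' = (G.obj.map a.op).hom (glob φ E) := by
  have h := ((sheafificationAdjunction (etTop X) AddCommGrpCat.{u + 1}).homEquiv _ _ φ).naturality a.op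
  exact congrArg (fun t : AddCommGrpCat.of (ULift.{u + 1} ℤ) ⟶ G.obj.obj (op E') => t.hom ⟨1⟩) h

theorem glob_comp {G H : AbEt X} (φ : zc X ⟶ G) (g : G ⟶ H) (E : EtOver X) :
    glob (φ ≫ g) E = (g.hom.app (op E)).hom (glob φ E) := by
  rw [glob, Adjunction.homEquiv_naturality_right]
  rfl

theorem glob_ext {G : AbEt X} {φ ψ : zc X ⟶ G} (h : ∀ E, glob φ E = glob ψ E) : φ = ψ :=
  ((sheafificationAdjunction (etTop X) AddCommGrpCat.{u + 1}).homEquiv _ _).injective
    (NatTrans.ext (funext fun ⟨E⟩ => (AddCommGrpCat.uliftZMultiplesAddEquiv _).injective (h E)))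

theorem exists_glob {G : AbEt X} (σ : ∀ E : EtOver X, G.obj.obj (op E))
    (hσ : ∀ (E E' : EtOver X) (a : E' ⟶ E), σ E' = (G.obj.map a.op).hom (σ E)) :
    ∃ φ : zc X ⟶ G, ∀ E, glob φ E = σ E := by
  refine ⟨((sheafificationAdjunction (etTop X) AddCommGrpCat.{u + 1}).homEquiv _ _).symm
    { app := fun E => (AddCommGrpCat.uliftZMultiplesAddEquiv _).symm (σ E.unop)
      naturality := fun E E' a => (AddCommGrpCat.uliftZMultiplesAddEquiv _).injective ?_ }, fun E => ?_⟩
  · refine Eq.trans ?_ (((hσ _ _ a.unop).trans (congrArg (G.obj.map a).hom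
      ((AddCommGrpCat.uliftZMultiplesAddEquiv _).apply_symm_apply (σ E.unop)).symm)))
    exact (congrArg (AddCommGrpCat.uliftZMultiplesAddEquiv _) (Category.id_comp _)).trans
      ((AddCommGrpCat.uliftZMultiplesAddEquiv _).apply_symm_apply _)
  · rw [glob, Equiv.apply_symm_apply]
    exact (AddCommGrpCat.uliftZMultiplesAddEquiv _).apply_symm_apply _

variable [QuasiSeparatedSpace ↥S] (hqc : IsQuasiCompactSp X) (hqs : IsQuasiSeparatedSp X)

include hqc hqs

/-- Cartan's criterion for the whole space. -/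
theorem subsingleton_HEt_of_isGood (n : ℕ) (G : AbEt X) (hG : IsGood G) : Subsingleton (HEt X G (n + 1)) := by
  induction n generalizing G with
  | zero =>
    let T := ShortComplex.mk (Injective.ι G) (cokernel.π _) (cokernel.condition (Injective.ι G))
    have hT : T.ShortExact := { exact := ShortComplex.exact_of_g_is_cokernel _ (cokernelIsCokernel _) }
    refine subsingleton_of_forall_eq 0 fun x => ?_
    obtain ⟨z, rfl⟩ := Ext.covariant_sequence_exact₁ _ hT x
      (haveI : Injective T.X₂ := inferInstanceAs (Injective (Injective.under G)); Ext.eq_zero_of_injective _)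
      (rfl : 0 + 1 = 1)
    obtain ⟨φ, rfl⟩ := (Ext.mk₀_bijective _ _).2 z
    obtain ⟨E₀, hE₀, hs⟩ := exists_atlas hqc
    have h₀ : Qcqs E₀ := haveI := hE₀; qcqs_of_isAffine _
    obtain ⟨a, ha⟩ := sections_surjective T hT hG h₀ (glob φ E₀)
    let D := covTop hqs E₀ h₀ hs
    obtain ⟨y, hyn, hy⟩ := exists_lift (D := D) T.f.hom T.g.hom (sec_injective T hT) (sec_exact T hT) (sec_zero T)
      (hG D 0) (isSheaf_type _) (isSheaf_type _) (fun E _ => glob φ E) (fun E E' b _ => glob_res φ b)
      (fun _ => a) (fun _ => ha)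
    obtain ⟨ψ, hψ⟩ := exists_glob (G := T.X₂) (fun E => y E PUnit.unit) fun E E' b => hyn E E' b PUnit.unit
    have hφ : ψ ≫ T.g = φ := glob_ext fun E => by
      rw [glob_comp, hψ]
      exact hy E PUnit.unit
    rw [← hφ, ← Ext.mk₀_comp_mk₀, Ext.comp_assoc_of_second_deg_zero, hT.comp_extClass, Ext.comp_zero]
  | succ n ih =>
    let T := ShortComplex.mk (Injective.ι G) (cokernel.π _) (cokernel.condition (Injective.ι G))
    have hT : T.ShortExact := { exact := ShortComplex.exact_of_g_is_cokernel _ (cokernelIsCokernel _) }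
    haveI hI : Injective T.X₂ := inferInstanceAs (Injective (Injective.under G))
    refine subsingleton_of_forall_eq 0 fun x => ?_
    obtain ⟨z, rfl⟩ := Ext.covariant_sequence_exact₁ _ hT x (Ext.eq_zero_of_injective _) (rfl : (n + 1) + 1 = _)
    haveI := ih T.X₃ (isGood_X₃ T hT hG (isGood_of_injective T.X₂))
    rw [Subsingleton.elim z 0, Ext.zero_comp]

variable {I : Type (u + 1)} [SmallCategory I] [IsFiltered I]

theorem comm_zero (K : I ⥤ AbEt X) : EtLC12.ExtColimGen.Comm (zc X) 0 K := by
  obtain ⟨E₀, hE₀, hs⟩ := exists_atlas hqc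
  have h₀ : Qcqs E₀ := haveI := hE₀; qcqs_of_isAffine _
  let D := covTop hqs E₀ h₀ hs
  refine ⟨fun x => ?_, fun i x hx => ?_⟩
  · obtain ⟨φ, rfl⟩ := (Ext.mk₀_bijective _ _).2 x
    obtain ⟨i, e, he⟩ := (sections_colim K E₀ h₀).1 (glob φ E₀)
    obtain ⟨P, τ, hP, hext, -⟩ := exists_coord D 1
    have hcd : ∀ a, ((colimit.ι K i).hom.app (op (P a))).hom
        (δ (fun E q => ((K.obj i).obj.map (q.1 0).2.op).hom e : Coch D (K.obj i).obj 0) (P a) (τ a)) = 0 :=
      fun a => by
        rw [δ_zero, map_sub]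
        have hl : ∀ (E : EtOver X) (l : D.L E),
            ((colimit.ι K i).hom.app (op E)).hom (((K.obj i).obj.map l.2.op).hom e) = glob φ E := fun E l => by
          rw [glob_res φ l.2]
          exact (ConcreteCategory.congr_hom ((colimit.ι K i).hom.naturality l.2.op) e).trans
            (congrArg ((colimit K).obj.map l.2.op).hom he)
        exact sub_eq_zero.2 ((hl _ _).trans (hl _ _).symm)
    obtain ⟨j, b, hb⟩ := exists_kill (K ⋙ sheafToPresheaf _ _) (fun i => (colimit.ι K i).hom) (fun a => ι_w K a)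
      (fun E hE => (sections_colim K E hE).2) P hP i _ hcd
    let e' := ((K.map b).hom.app (op E₀)).hom e
    let c : Coch D (K.obj j).obj 0 := fun E q => ((K.obj j).obj.map (q.1 0).2.op).hom e'
    have hc : IsNat c := fun E E' a q => by
      show ((K.obj j).obj.map (a ≫ (q.1 0).2).op).hom _ = _
      rw [op_comp, (K.obj j).obj.map_comp]
      rfl
    have hδ : ∀ E q, δ c E q = 0 := hext _ _ (fun _ _ => 0) hc.δ (fun _ _ _ _ => (map_zero _).symm) fun a => by
      refine Eq.trans ?_ (hb a)
      refine Eq.trans ?_ (δ_map (K.map b).hom _ _ _)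
      exact Finset.sum_congr rfl fun m _ => congrArg _
        (ConcreteCategory.congr_hom ((K.map b).hom.naturality _) e).symm
    obtain ⟨σ, hσn, hσ⟩ := exists_glue (D := D) (isSheaf_type (K.obj j))
      (fun E l => ((K.obj j).obj.map l.2.op).hom e')
      (fun E E' a l => by
        show ((K.obj j).obj.map (a ≫ l.2).op).hom _ = _
        rw [op_comp, (K.obj j).obj.map_comp]
        rfl)
      (fun E l l' hl => by
        have h := hδ E ⟨![l', l], fun _ _ => rfl⟩
        rw [δ_zero] at h
        exact sub_eq_zero.1 h)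
    obtain ⟨ψ, hψ⟩ := exists_glob (G := K.obj j) (fun E => σ E PUnit.unit) fun E E' a => hσn E E' a PUnit.unit
    refine ⟨j, Ext.mk₀ ψ, ?_⟩
    rw [Ext.mk₀_comp_mk₀]
    refine congrArg Ext.mk₀ (glob_ext fun E => ?_)
    refine base_ext (D := D) (isSheaf_type _) (fun E _ => glob (ψ ≫ colimit.ι K j) E) (fun E _ => glob φ E)
      (fun E E' a _ => glob_res _ a) (fun E E' a _ => glob_res _ a) (fun E l => ?_) E PUnit.unit
    show glob (ψ ≫ colimit.ι K j) E = _
    rw [glob_comp, hψ, glob_res φ l.2]
    refine (congrArg _ (hσ E l)).trans ?_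
    refine (ConcreteCategory.congr_hom ((colimit.ι K j).hom.naturality l.2.op) e').trans ?_
    exact congrArg ((colimit K).obj.map l.2.op).hom
      ((ConcreteCategory.congr_hom (NatTrans.congr_app (ι_w K b) _) e).trans he)
  · obtain ⟨φ, rfl⟩ := (Ext.mk₀_bijective _ _).2 x
    rw [Ext.mk₀_comp_mk₀, ← Ext.mk₀_zero] at hx
    have h0 : φ ≫ colimit.ι K i = 0 := (Ext.mk₀_bijective _ _).1 hx
    obtain ⟨j, b, hb⟩ := (sections_colim K E₀ h₀).2 i (glob φ E₀) (by
      rw [← glob_comp, h0]
      rw [glob, Adjunction.homEquiv_unit, Functor.map_zero, comp_zero]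
      rfl)
    refine ⟨j, b, ?_⟩
    rw [Ext.mk₀_comp_mk₀, ← Ext.mk₀_zero]
    refine congrArg Ext.mk₀ (glob_ext fun E => ?_)
    refine base_ext (D := D) (isSheaf_type _) (fun E _ => glob (φ ≫ K.map b) E) (fun E _ => glob 0 E)
      (fun E E' a _ => glob_res _ a) (fun E E' a _ => glob_res _ a) (fun E l => ?_) E PUnit.unit
    show glob (φ ≫ K.map b) E = glob 0 E
    have hz : ∀ W, glob (0 : zc X ⟶ K.obj j) W = 0 := fun W => by
      rw [glob, Adjunction.homEquiv_unit, Functor.map_zero, comp_zero]
      rfl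
    rw [glob_res _ l.2, glob_res (0 : zc X ⟶ K.obj j) l.2, glob_comp]
    exact congrArg ((K.obj j).obj.map l.2.op).hom (hb.trans (hz E₀).symm)

/-- Cohomology commutes with filtered colimits. -/
theorem preservesColimitsOfShape_HEtF (n : ℕ) : PreservesColimitsOfShape I (HEtF X n) where
  preservesColimit {K} := by
    suffices h : PreservesColimit K ((extFunctor.{u + 1} n).obj (op (zc X))) from
      preservesColimit_of_natIso K (show (extFunctor.{u + 1} n).obj (op (zc X)) ≅ HEtF X n from
        NatIso.ofComponents (fun F => Iso.refl _) fun f => rfl)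
    exact (EtLC12.ExtColimGen.comm_all (P := zc X) (comm_zero hqc hqs)
      (fun K hK q => subsingleton_HEt_of_isGood hqc hqs q _
        (isGood_colimit K fun i => haveI := hK i; isGood_of_injective _)) n K).preservesColimit

end Global

end Groth.Agent.EtQC.Glob
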