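import Groth.Agent.EtQC.Glob.Opens
import Groth.Agent.EtQC.ToQC

/-!
# Cohomology of quasi-coherent modules on qcqs spaces vanishes in high degrees
-/

set_option autoImplicit false
set_option backward.isDefEq.respectTransparency false
set_option backward.isDefEq.respectTransparency.types false

universe u

set_option maxHeartbeats 800000

open CategoryTheory CategoryTheory.Limits AlgebraicGeometry Opposite Abelian AlgSp TopologicalSpace
open Groth.Agent.AlgSpLib Groth.Agent.AlgSpPts Groth.Agent.AlgSpDec Groth.Agent.AlgSpDec.Neat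

namespace Groth.Agent.EtQC.Glob

variable {S : Scheme.{u}} {X : Sp S}

/-- The part over nothing is zero. -/
theorem isZero_zb_empty : IsZero (zb (inO (∅ : Set (Points X)))) := by
  refine (IsZero.iff_id_eq_zero _).2 (val_ext fun E b => ?_)
  have hR : Sieve.ofArrows (fun i : PEmpty.{1} => (i.elim : EtOver X)) (fun i => i.elim) ∈ etTop X E :=
    AlgSpDec.ofArrows_mem_etTop _ _ fun x => (InEl.mem b x).elim
  refine ((isSheaf_type _).isSeparated _ hR).ext fun E' a ha => ?_
  obtain ⟨i, -⟩ := (Sieve.mem_ofArrows_iff _ _ _).1 ha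
  exact i.elim

/-- The part over everything is the constant sheaf. -/
theorem exists_iso_univ : Nonempty (zb (inO (Set.univ : Set (Points X))) ≅ zc X) := by
  let st : ∀ E, (inO (Set.univ : Set (Points X))).obj (op E) := fun E => (⟨fun _ => trivial⟩ : InEl (Set.univ : Set (Points X)) E)
  obtain ⟨u, hu⟩ := exists_val (β := inO (Set.univ : Set (Points X))) (G := zc X) (fun E _ => glob (𝟙 _) E)
    fun E E' a b => glob_res _ a
  obtain ⟨v, hv⟩ := exists_glob (X := X) (G := zb (inO (Set.univ : Set (Points X)))) (fun E => val (𝟙 _) E (st E))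
    fun E E' a => by rw [← val_res]; exact congrArg _ (Subsingleton.elim _ _)
  refine ⟨⟨u, v, val_ext fun E b => ?_, glob_ext fun E => ?_⟩⟩
  · rw [val_comp, hu, ← glob_comp, Category.id_comp, hv]
    exact congrArg _ (Subsingleton.elim _ _)
  · rw [glob_comp, hv, ← val_comp, Category.id_comp, hu]

/-- Quasi-coherent modules on qcqs spaces have cohomology in boundedly many degrees. -/
theorem exists_bound {S : Scheme.{u}} [QuasiSeparatedSpace ↥S] (X : Space S) (hqc : IsQuasiCompactSp X.obj)
    (hqs : IsQuasiSeparatedSp X.obj) : ∃ n : ℕ, ∀ (M : ModEt X.obj), M.IsQuasicoherent → ∀ q, n ≤ q →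
      Subsingleton (HModEt X.obj M q) := by
  let Q : Set (Points X.obj) → Prop := fun O => IsOpen O → IsCompact O → ∃ n : ℕ,
    ∀ (G : AbEt X.obj), IsAffAcyclic G → ∀ q, n ≤ q → Subsingleton (Ext (zb (inO O)) G q)
  have hQ : Q Set.univ := by
    refine induction_open X hqc hqs Q ∅ isOpen_empty isCompact_empty (fun _ _ => ⟨0, fun G _ q _ =>
      subsingleton_of_forall_eq 0 fun e => ?_⟩) ?_
    · rw [← Ext.mk₀_id_comp e, (IsZero.iff_id_eq_zero _).1 isZero_zb_empty, Ext.mk₀_zero, Ext.zero_comp]
    intro O V φ hV hO hOc _ hφ hn hQO _ _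
    obtain ⟨n, hb⟩ := hQO hO hOc
    let E : EtOver X.obj := EtOver.mk φ hφ
    haveI : IsAffine E.obj.left.left := hV
    haveI : CompactSpace ↥V.left := inferInstanceAs (CompactSpace ↥E.obj.left.left)
    obtain ⟨k, hk⟩ := exists_bound_sub E (preO E hO)
      (AlgSpDec.isCompact_preimage_ofPt X.property hqs E.obj.hom hO hOc)
    refine ⟨max n (k + 2), fun G hG q hq => ?_⟩
    obtain ⟨q, rfl⟩ := Nat.exists_eq_add_of_le' (show 1 ≤ q by omega)
    exact (squareAdd hO E hn).subsingleton_ext G q (hb G hG _ (by omega))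
      (subsingleton_ext_affine E ⊤ (isAffineOpen_top _) q G hG) (hk G hG q (by omega))
  haveI : CompactSpace (Points X.obj) := compactSpace_points hqc
  obtain ⟨n, hn⟩ := hQ isOpen_univ isCompact_univ
  obtain ⟨e⟩ := exists_iso_univ (X := X.obj)
  refine ⟨n, fun M hM q hq => ?_⟩
  haveI := hn ((toAbEt X.obj).obj M)
    (haveI := hM; isAffAcyclic_of_bcAll (bcAll_of_isQuasicoherent M)) q hq
  refine subsingleton_of_forall_eq 0 fun x => ?_
  have h : (x : Ext (zc X.obj) ((toAbEt X.obj).obj M) q) = (Ext.mk₀ e.inv).comp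
      ((Ext.mk₀ e.hom).comp x (zero_add q)) (zero_add q) := by
    rw [Ext.mk₀_comp_mk₀_assoc, e.inv_hom_id, Ext.mk₀_id_comp]
  rw [h, Subsingleton.elim ((Ext.mk₀ e.hom).comp x (zero_add q)) 0, Ext.comp_zero]

end Groth.Agent.EtQC.Glob
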