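import Mathlib.RingTheory.KrullDimension.Basic
import Mathlib.RingTheory.Spectrum.Prime.Topology
import Mathlib.RingTheory.Localization.AtPrime.Basic
import Mathlib.RingTheory.Localization.Away.Basic
import Mathlib.Algebra.Module.LocalizedModule.Basic
import Mathlib.Order.KrullDimension
import Mathlib.Tactic.Abel

/-!
# The Cech complex of finitely many elements is exact above the Krull dimension

No noetherian hypothesis: localise, then induct on the dimension and on the number of elements.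
-/

set_option autoImplicit false

universe u v w

open scoped BigOperators

namespace Groth.Agent.EtQC.Glob.CechAlg

section Basic

variable {A : Type u} [CommRing A] {M : Type v} [AddCommGroup M] [Module A M] {ι : Type} (f : ι → A)

/-- The differential on numerators with exponent `N`. -/
def dlt (N : ℕ) {i : ℕ} (b : (Fin i → ι) → M) (p : Fin (i + 1) → ι) : M :=
  ∑ j : Fin (i + 1), (-1 : ℤ) ^ (j : ℕ) • (f (p j) ^ N • b (p ∘ j.succAbove))

/-- The product over a tuple. -/
def pr {i : ℕ} (p : Fin i → ι) : A := ∏ j, f (p j)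

theorem pr_succAbove {i : ℕ} (p : Fin (i + 1) → ι) (j : Fin (i + 1)) : pr f p = f (p j) * pr f (p ∘ j.succAbove) :=
  Fin.prod_univ_succAbove (fun k => f (p k)) j

theorem dlt_sub (N : ℕ) {i : ℕ} (b c : (Fin i → ι) → M) (p : Fin (i + 1) → ι) :
    dlt f N (fun q => b q - c q) p = dlt f N b p - dlt f N c p := by
  simp only [dlt, smul_sub, zsmul_sub, Finset.sum_sub_distrib]

theorem dlt_add (N : ℕ) {i : ℕ} (b c : (Fin i → ι) → M) (p : Fin (i + 1) → ι) :
    dlt f N (fun q => b q + c q) p = dlt f N b p + dlt f N c p := by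
  simp only [dlt, smul_add, zsmul_add, Finset.sum_add_distrib]

theorem dlt_smul (N : ℕ) {i : ℕ} (r : A) (b : (Fin i → ι) → M) (p : Fin (i + 1) → ι) :
    dlt f N (fun q => r • b q) p = r • dlt f N b p := by
  simp only [dlt, Finset.smul_sum]
  refine Finset.sum_congr rfl fun j _ => ?_
  rw [smul_comm (f (p j) ^ N) r, smul_comm ((-1 : ℤ) ^ (j : ℕ)) r]

theorem dlt_map {M' : Type w} [AddCommGroup M'] [Module A M'] (g : M →ₗ[A] M') (N : ℕ) {i : ℕ}
    (b : (Fin i → ι) → M) (p : Fin (i + 1) → ι) : dlt f N (fun q => g (b q)) p = g (dlt f N b p) := by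
  simp only [dlt, map_sum, map_zsmul, map_smul]

theorem dlt_raise (N L : ℕ) {i : ℕ} (b : (Fin i → ι) → M) (p : Fin (i + 1) → ι) :
    dlt f (N + L) (fun q => pr f q ^ L • b q) p = pr f p ^ L • dlt f N b p := by
  simp only [dlt, Finset.smul_sum]
  refine Finset.sum_congr rfl fun j _ => ?_
  rw [smul_smul, smul_comm (pr f p ^ L) ((-1 : ℤ) ^ (j : ℕ)), smul_smul]
  congr 2
  rw [pr_succAbove f p j, mul_pow, pow_add]
  ring

theorem dlt_cons (N : ℕ) {i : ℕ} (c : (Fin (i + 1) → ι) → M) (a : ι) (q : Fin (i + 1) → ι) :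
    dlt f N c (Fin.cons a q : Fin (i + 2) → ι) =
      f a ^ N • c q - dlt f N (fun r : Fin i → ι => c (Fin.cons a r)) q := by
  rw [dlt, Fin.sum_univ_succ, sub_eq_add_neg, dlt, ← Finset.sum_neg_distrib]
  refine congrArg₂ (· + ·) ?_ (Finset.sum_congr rfl fun j _ => ?_)
  · have e : (Fin.cons a q : Fin (i + 2) → ι) ∘ (0 : Fin (i + 2)).succAbove = q := funext fun k => by simp
    rw [e, Fin.val_zero, pow_zero, one_zsmul, Fin.cons_zero]
  · have e : (Fin.cons a q : Fin (i + 2) → ι) ∘ j.succ.succAbove = Fin.cons a (q ∘ j.succAbove) := funext fun k => by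
      induction k using Fin.cases with
      | zero => simp
      | succ k => simp
    rw [e, Fin.val_succ, Fin.cons_succ, pow_succ, mul_neg_one, neg_zsmul]

theorem dlt_dlt (N : ℕ) : ∀ {i : ℕ} (c : (Fin i → ι) → M) (p : Fin (i + 2) → ι), dlt f N (dlt f N c) p = 0 := by
  intro i
  induction i with
  | zero =>
    intro c p
    have e : ∀ r : Fin 1 → ι, dlt f N c r = f (r 0) ^ N • c Fin.elim0 := fun r => by
      refine (Fin.sum_univ_one _).trans ?_
      rw [Fin.val_zero, pow_zero, one_zsmul, Subsingleton.elim (r ∘ (0 : Fin 1).succAbove) Fin.elim0]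
    refine (Fin.sum_univ_two (f := fun j : Fin 2 =>
      (-1 : ℤ) ^ (j : ℕ) • (f (p j) ^ N • dlt f N c (p ∘ j.succAbove)))).trans ?_
    simp only [e, Function.comp_apply, Fin.val_zero, Fin.val_one, pow_zero, pow_one, one_zsmul, neg_zsmul]
    rw [show (0 : Fin 2).succAbove 0 = 1 from rfl, show (1 : Fin 2).succAbove 0 = 0 from rfl,
      smul_comm (f (p 1) ^ N) (f (p 0) ^ N)]
    exact add_neg_cancel _
  | succ i ih =>
    intro c p
    rw [← Fin.cons_self_tail p, dlt_cons]
    have e : (fun r : Fin (i + 1) → ι => dlt f N c (Fin.cons (p 0) r : Fin (i + 2) → ι)) =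
        fun r => f (p 0) ^ N • c r - dlt f N (fun s : Fin i → ι => c (Fin.cons (p 0) s)) r :=
      funext fun r => dlt_cons f N c _ r
    rw [e, dlt_sub, ih, sub_zero, dlt_smul, sub_self]

variable (M) in
/-- Exactness in degree `i + 1` of the colimit of the numerator complexes. -/
def Ex (i : ℕ) : Prop :=
  ∀ (N : ℕ) (a : (Fin (i + 1) → ι) → M), (∀ p, dlt f N a p = 0) →
    ∃ (K : ℕ) (b : (Fin i → ι) → M), ∀ p, pr f p ^ K • a p = dlt f (N + K) b p

theorem raise {N K : ℕ} {i : ℕ} {a : (Fin (i + 1) → ι) → M} {b : (Fin i → ι) → M}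
    (h : ∀ p, pr f p ^ K • a p = dlt f (N + K) b p) (L : ℕ) (p : Fin (i + 1) → ι) :
    pr f p ^ (K + L) • a p = dlt f (N + (K + L)) (fun q => pr f q ^ L • b q) p := by
  rw [← add_assoc, dlt_raise, ← h, smul_smul, ← pow_add, add_comm K L]

theorem ex_of_subsingleton [Subsingleton M] (i : ℕ) : Ex M f i :=
  fun _ _ _ => ⟨0, fun _ => 0, fun _ => Subsingleton.elim _ _⟩

theorem ex_of_isUnit {v : ι} (hv : IsUnit (f v)) (i : ℕ) : Ex M f i := by
  intro N a ha
  obtain ⟨u, hu⟩ := (hv.pow N).exists_left_inv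
  refine ⟨0, fun q => u • a (Fin.cons v q), fun p => ?_⟩
  have h := ha (Fin.cons v p)
  rw [dlt_cons, sub_eq_zero] at h
  rw [pow_zero, one_smul, dlt_smul, add_zero, ← h, smul_smul, hu, one_smul]

end Basic

section Torsion

variable {A : Type u} [CommRing A] {M : Type v} [AddCommGroup M] [Module A M] {n : ℕ} (f : Fin (n + 1) → A)

theorem exists_kill (ht : ∀ m : M, ∃ k : ℕ, f 0 ^ k • m = 0) {i : ℕ} (x : (Fin i → Fin (n + 1)) → M) :
    ∃ L : ℕ, ∀ p : Fin i → Fin (n + 1), (∃ j, p j = 0) → pr f p ^ L • x p = 0 := by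
  classical
  choose k hk using fun p => ht (x p)
  refine ⟨∑ p, k p, fun p ⟨j, hj⟩ => ?_⟩
  obtain ⟨c, hc⟩ : f 0 ∣ pr f p := by rw [← hj]; exact Finset.dvd_prod_of_mem _ (Finset.mem_univ j)
  rw [hc, mul_pow, mul_comm, ← smul_smul, show f 0 ^ (∑ p, k p) • x p = 0 from ?_, smul_zero]
  obtain ⟨r', hr'⟩ := Nat.exists_eq_add_of_le'
    (Finset.single_le_sum (fun p _ => Nat.zero_le (k p)) (Finset.mem_univ p) : k p ≤ ∑ p, k p)
  rw [hr', pow_add, ← smul_smul, hk, smul_zero]

/-- When everything is torsion for the first element it may be omitted. -/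
theorem ex_of_torsion (ht : ∀ m : M, ∃ k : ℕ, f 0 ^ k • m = 0) {i : ℕ} (h : Ex M (f ∘ Fin.succ) i) : Ex M f i := by
  classical
  intro N a ha
  obtain ⟨K₁, hK₁⟩ := exists_kill f ht a
  let a₁ : (Fin (i + 1) → Fin (n + 1)) → M := fun p => pr f p ^ K₁ • a p
  have ha₁ : ∀ p, dlt f (N + K₁) a₁ p = 0 := fun p => by
    rw [dlt_raise, ha, smul_zero]
  have ha₁' : ∀ q : Fin (i + 2) → Fin n, dlt (f ∘ Fin.succ) (N + K₁) (fun r => a₁ (Fin.succ ∘ r)) q = 0 :=
    fun q => ha₁ (Fin.succ ∘ q)
  obtain ⟨K, b, hb⟩ := h (N + K₁) _ ha₁'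
  let b' : (Fin i → Fin (n + 1)) → M := fun p =>
    if hp : ∀ j, p j ≠ 0 then b (fun j => (p j).pred (hp j)) else 0
  have hb' : ∀ q : Fin i → Fin n, b' (Fin.succ ∘ q) = b q := fun q => by
    have hq : ∀ j, (Fin.succ ∘ q) j ≠ 0 := fun j => Fin.succ_ne_zero _
    show dite _ _ _ = _
    rw [dif_pos hq]
    exact congrArg b (funext fun j => Fin.pred_succ _)
  obtain ⟨L, hL⟩ := exists_kill f ht (dlt f (N + K₁ + K) b')
  refine ⟨K₁ + K + L, fun p => pr f p ^ L • b' p, fun p => ?_⟩
  have e : pr f p ^ (K₁ + K + L) • a p = pr f p ^ L • pr f p ^ K • a₁ p := by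
    simp only [a₁, smul_smul, ← pow_add]
    congr 2
    omega
  rw [e, ← add_assoc, ← add_assoc, dlt_raise]
  by_cases hp : ∃ j, p j = 0
  · rw [hL p hp]
    show pr f p ^ L • pr f p ^ K • pr f p ^ K₁ • a p = 0
    rw [hK₁ p hp, smul_zero, smul_zero]
  · have hp' : ∀ j, p j ≠ 0 := fun j hj => hp ⟨j, hj⟩
    obtain ⟨q, rfl⟩ : ∃ q : Fin (i + 1) → Fin n, Fin.succ ∘ q = p :=
      ⟨fun j => (p j).pred (hp' j), funext fun j => Fin.succ_pred _ _⟩
    refine congrArg _ ?_
    refine (hb q).trans ?_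
    refine Finset.sum_congr rfl fun j _ => congrArg (fun y => (-1 : ℤ) ^ (j : ℕ) • y)
      (congrArg (fun y => f (q j).succ ^ (N + K₁ + K) • y) ?_)
    exact (hb' (q ∘ j.succAbove)).symm

end Torsion

section Sequences

variable {A : Type u} [CommRing A] {ι : Type} [Fintype ι] {f : ι → A}
  {M₁ M₂ M₃ : Type v} [AddCommGroup M₁] [Module A M₁] [AddCommGroup M₂] [Module A M₂] [AddCommGroup M₃] [Module A M₃]
  (g₁ : M₁ →ₗ[A] M₂) (g₂ : M₂ →ₗ[A] M₃)

theorem ex_middle (hex : Function.Exact g₁ g₂) (hsurj : Function.Surjective g₂) (hinj : Function.Injective g₁)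
    {i : ℕ} (h1 : Ex M₁ f i) (h3 : Ex M₃ f i) : Ex M₂ f i := by
  intro N a ha
  obtain ⟨K, b₃, hb₃⟩ := h3 N (fun p => g₂ (a p)) fun p => by rw [dlt_map, ha, map_zero]
  choose b₂ hb₂ using fun q => hsurj (b₃ q)
  have hker : ∀ p, g₂ (pr f p ^ K • a p - dlt f (N + K) b₂ p) = 0 := fun p => by
    rw [map_sub, map_smul, hb₃, ← dlt_map, show (fun q => g₂ (b₂ q)) = b₃ from funext hb₂, sub_self]
  choose a₁ ha₁ using fun p => (hex _).1 (hker p)
  obtain ⟨L, b₁, hb₁⟩ := h1 (N + K) a₁ fun p => hinj (by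
    rw [← dlt_map, show (fun q => g₁ (a₁ q)) = fun q => pr f q ^ K • a q - dlt f (N + K) b₂ q from funext ha₁,
      dlt_sub, dlt_raise, ha, smul_zero, dlt_dlt, sub_zero, map_zero])
  refine ⟨K + L, fun q => pr f q ^ L • b₂ q + g₁ (b₁ q), fun p => ?_⟩
  have h := congrArg g₁ (hb₁ p)
  rw [map_smul, ha₁, ← dlt_map, smul_sub, smul_smul, ← pow_add, add_comm L K, sub_eq_iff_eq_add] at h
  rw [h, dlt_add, ← add_assoc, dlt_raise, add_comm]

theorem ex_left (hex : Function.Exact g₁ g₂) (hinj : Function.Injective g₁) (hsurj : Function.Surjective g₂)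
    {i : ℕ} (h2 : Ex M₂ f (i + 1)) (h3 : Ex M₃ f i) : Ex M₁ f (i + 1) := by
  intro N a ha
  obtain ⟨K, b₂, hb₂⟩ := h2 N (fun p => g₁ (a p)) fun p => by rw [dlt_map, ha, map_zero]
  obtain ⟨L, b₃, hb₃⟩ := h3 (N + K) (fun q => g₂ (b₂ q)) fun p => by
    rw [dlt_map, ← hb₂, map_smul, hex.apply_apply_eq_zero, smul_zero]
  choose c hc using fun q => hsurj (b₃ q)
  have hker : ∀ q, g₂ (pr f q ^ L • b₂ q - dlt f (N + K + L) c q) = 0 := fun q => by
    rw [map_sub, map_smul, hb₃, ← dlt_map, show (fun r => g₂ (c r)) = b₃ from funext hc, sub_self]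
  choose b₁ hb₁ using fun q => (hex _).1 (hker q)
  refine ⟨K + L, b₁, fun p => hinj ?_⟩
  rw [← dlt_map, show (fun q => g₁ (b₁ q)) = fun q => pr f q ^ L • b₂ q - dlt f (N + K + L) c q from funext hb₁,
    ← add_assoc, dlt_sub, dlt_dlt, sub_zero, dlt_raise, ← hb₂, smul_smul, ← pow_add, add_comm L K, map_smul]

theorem ex_right (hex : Function.Exact g₁ g₂) (hinj : Function.Injective g₁) (hsurj : Function.Surjective g₂)
    {i : ℕ} (h2 : Ex M₂ f i) (h1 : Ex M₁ f (i + 1)) : Ex M₃ f i := by
  intro N a ha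
  choose a₂ ha₂ using fun p => hsurj (a p)
  have hker : ∀ p, g₂ (dlt f N a₂ p) = 0 := fun p => by
    rw [← dlt_map, show (fun q => g₂ (a₂ q)) = a from funext ha₂, ha]
  choose a₁ ha₁ using fun p => (hex _).1 (hker p)
  obtain ⟨K, b₁, hb₁⟩ := h1 N a₁ fun p => hinj (by
    rw [← dlt_map, show (fun q => g₁ (a₁ q)) = dlt f N a₂ from funext ha₁, dlt_dlt, map_zero])
  obtain ⟨L, b₂, hb₂⟩ := h2 (N + K) (fun q => pr f q ^ K • a₂ q - g₁ (b₁ q)) fun p => by
    rw [dlt_sub, dlt_raise, dlt_map, ← hb₁, map_smul, ha₁, sub_self]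
  refine ⟨K + L, fun q => g₂ (b₂ q), fun p => ?_⟩
  rw [dlt_map, ← add_assoc, ← hb₂, map_smul, map_sub, map_smul, ha₂, hex.apply_apply_eq_zero, sub_zero, smul_smul,
    ← pow_add, add_comm L K]

end Sequences

section Localise

variable {A : Type u} [CommRing A] {M : Type v} [AddCommGroup M] [Module A M] {ι : Type}

theorem ex_of_algebra {B : Type u} [CommRing B] [Algebra A B] [Module B M] [IsScalarTower A B M] (f : ι → A) {i : ℕ}
    (h : Ex (A := B) M (fun k => algebraMap A B (f k)) i) : Ex M f i := by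
  have hs : ∀ (r : A) (m : M), algebraMap A B r • m = r • m := fun r m => algebraMap_smul B r m
  have hd : ∀ (N : ℕ) {j : ℕ} (b : (Fin j → ι) → M) p,
      dlt (fun k => algebraMap A B (f k)) N b p = dlt f N b p := fun N j b p =>
    Finset.sum_congr rfl fun k _ => by rw [← map_pow, hs]
  intro N a ha
  obtain ⟨K, b, hb⟩ := h N a fun p => (hd N a p).trans (ha p)
  refine ⟨K, b, fun p => ?_⟩
  rw [← hd, ← hb, ← hs, map_pow]
  simp only [pr, map_prod]

variable [Fintype ι]

theorem ex_of_maximal (f : ι → A) {i : ℕ}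
    (h : ∀ (m : Ideal A) [m.IsMaximal],
      Ex (A := Localization.AtPrime m) (LocalizedModule m.primeCompl M) (fun k => algebraMap A _ (f k)) i) :
    Ex M f i := by
  classical
  intro N a ha
  let I : Ideal A :=
    { carrier := {r | ∃ (K : ℕ) (b : (Fin i → ι) → M), ∀ p, pr f p ^ K • (r • a p) = dlt f (N + K) b p}
      add_mem' := by
        rintro r s ⟨K, b, hb⟩ ⟨L, c, hc⟩
        refine ⟨K + L, fun q => pr f q ^ L • b q + pr f q ^ K • c q, fun p => ?_⟩
        rw [dlt_add, ← raise f hb L p, show N + (K + L) = N + (L + K) by omega, ← raise f hc K p,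
          show L + K = K + L by omega, add_smul, smul_add]
      zero_mem' := ⟨0, fun _ => 0, fun p => by simp [dlt]⟩
      smul_mem' := by
        rintro t r ⟨K, b, hb⟩
        refine ⟨K, fun q => t • b q, fun p => ?_⟩
        rw [dlt_smul, ← hb, smul_eq_mul, mul_smul, smul_comm] }
  suffices hI : I = ⊤ by
    obtain ⟨K, b, hb⟩ : (1 : A) ∈ I := hI ▸ Submodule.mem_top
    exact ⟨K, b, fun p => by rw [← hb, one_smul]⟩
  by_contra hI
  obtain ⟨m, hm, hIm⟩ := Ideal.exists_le_maximal I hI
  let l := LocalizedModule.mkLinearMap m.primeCompl M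
  obtain ⟨K, b', hb'⟩ := ex_of_algebra (B := Localization.AtPrime m) f (h m) N (fun p => l (a p)) fun p => by
    rw [dlt_map, ha, map_zero]
  choose x hx using fun q => IsLocalizedModule.surj m.primeCompl l (b' q)
  let s : m.primeCompl := ∏ q, (x q).2
  let b : (Fin i → ι) → M := fun q => (∏ q' ∈ Finset.univ.erase q, (x q').2) • (x q).1
  have hb : ∀ q, l (b q) = (s : A) • b' q := fun q => by
    simp only [b, s, Submonoid.smul_def]
    rw [map_smul, ← hx q, Submonoid.smul_def, smul_smul, ← Submonoid.coe_mul,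
      mul_comm, Finset.mul_prod_erase _ (fun q => (x q).2) (Finset.mem_univ q)]
  have he : ∀ p, ∃ c : m.primeCompl, c • ((s : A) • pr f p ^ K • a p) = c • dlt f (N + K) b p := fun p => by
    refine IsLocalizedModule.exists_of_eq (S := m.primeCompl) (f := l) ?_
    rw [map_smul, map_smul, hb', ← dlt_smul, ← dlt_map]
    exact congrArg (fun c => dlt f (N + K) c p) (funext fun q => (hb q).symm)
  choose c hc using he
  let t : m.primeCompl := ∏ p, c p
  have hts : (t : A) * s ∈ I := ⟨K, fun q => (t : A) • b q, fun p => by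
    obtain ⟨e, he⟩ : c p ∣ t := Finset.dvd_prod_of_mem _ (Finset.mem_univ p)
    have h1 := congrArg (fun y => (e : A) • y) (hc p)
    simp only [Submonoid.smul_def, smul_smul] at h1
    rw [dlt_smul, he, Submonoid.coe_mul, smul_smul, show (c p : A) * e = e * c p from mul_comm _ _, ← h1]
    congr 1
    ring⟩
  exact (t * s).2 (hIm hts)

end Localise

theorem ringKrullDim_localization_le {A : Type u} [CommRing A] (S : Submonoid A) (B : Type u) [CommRing B]
    [Algebra A B] [IsLocalization S B] : ringKrullDim B ≤ ringKrullDim A :=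
  Order.krullDim_le_of_strictMono (PrimeSpectrum.comap (algebraMap A B))
    (Monotone.strictMono_of_injective (fun _ _ h => Ideal.comap_mono h)
      (PrimeSpectrum.localization_comap_injective B S))

theorem ringKrullDim_away_lt {A : Type u} [CommRing A] [IsLocalRing A] {d : ℕ} (hA : ringKrullDim A < (d + 1 : ℕ))
    {f : A} (hf : f ∈ IsLocalRing.maximalIdeal A) : ringKrullDim (Localization.Away f) < (d : ℕ) := by
  by_contra h
  obtain ⟨l, hl⟩ := Order.le_krullDim_iff.1 (not_lt.1 h)
  let φ := PrimeSpectrum.comap (algebraMap A (Localization.Away f))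
  have hφ : StrictMono φ := Monotone.strictMono_of_injective (fun _ _ h => Ideal.comap_mono h)
    (PrimeSpectrum.localization_comap_injective _ (Submonoid.powers f))
  have hlt : (l.map φ hφ).last < IsLocalRing.closedPoint A := by
    have hp : ∀ P : PrimeSpectrum (Localization.Away f), f ∉ (φ P).asIdeal := fun P hfP =>
      P.isPrime.ne_top (Ideal.eq_top_of_isUnit_mem _ hfP (IsLocalization.Away.algebraMap_isUnit f))
    refine lt_of_le_of_ne (IsLocalRing.le_maximalIdeal (φ l.last).isPrime.ne_top) fun e => ?_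
    have e' : (φ l.last).asIdeal = IsLocalRing.maximalIdeal A := congrArg PrimeSpectrum.asIdeal
      ((LTSeries.last_map l φ hφ).symm.trans e)
    exact hp _ (e' ▸ hf)
  refine not_le.2 hA (Order.le_krullDim_iff.2 ⟨(l.map φ hφ).snoc _ hlt, ?_⟩)
  simp [hl]

/-- Cech cohomology vanishes above the Krull dimension. -/
theorem ex_of_dim : ∀ (d : ℕ) (A : Type u) [CommRing A], ringKrullDim A < (d : ℕ) →
    ∀ (M : Type (max u v)) [AddCommGroup M] [Module A M] (n : ℕ) (f : Fin n → A) (i : ℕ), d ≤ i + 1 → Ex M f i := by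
  intro d
  induction d with
  | zero =>
    intro A _ hA M _ _ n f i _
    have : Subsingleton A := by
      by_contra hs
      rw [not_subsingleton_iff_nontrivial] at hs
      exact absurd hA (not_lt.2 (by simpa using ringKrullDim_nonneg_of_nontrivial (R := A)))
    have : Subsingleton M := Module.subsingleton A M
    exact ex_of_subsingleton f i
  | succ d ihd =>
    intro A _ hA M _ _ n f i hi
    refine ex_of_maximal f fun m _ => ?_
    have hA' : ringKrullDim (Localization.AtPrime m) < ((d + 1 : ℕ) : ℕ) :=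
      lt_of_le_of_lt (ringKrullDim_localization_le m.primeCompl _) hA
    suffices key : ∀ (B : Type u) [CommRing B] [IsLocalRing B], ringKrullDim B < ((d + 1 : ℕ) : ℕ) →
        ∀ (n : ℕ) (f : Fin n → B) (M : Type (max u v)) [AddCommGroup M] [Module B M], Ex M f i from
      key _ hA' n _ _
    intro B _ _ hB n
    induction n with
    | zero => exact fun f M _ _ N a _ => ⟨0, fun _ => 0, fun p => (p 0).elim0⟩
    | succ n ihn =>
      intro f M _ _
      by_cases hu : IsUnit (f 0)
      · exact ex_of_isUnit f hu i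
      let S := Submonoid.powers (f 0)
      let l := LocalizedModule.mkLinearMap S M
      have hker : ∀ x : ↥(LinearMap.ker l), ∃ k : ℕ, f 0 ^ k • x = 0 := by
        rintro ⟨x, hx⟩
        obtain ⟨⟨_, k, rfl⟩, hk⟩ := (IsLocalizedModule.eq_zero_iff S l).1 (LinearMap.mem_ker.1 hx)
        exact ⟨k, Subtype.ext hk⟩
      refine ex_middle (LinearMap.ker l).subtype l.rangeRestrict ?_ l.surjective_rangeRestrict
        Subtype.val_injective (ex_of_torsion f hker (ihn _ _)) ?_
      · exact fun x => ⟨fun hx => ⟨⟨x, LinearMap.mem_ker.2 (congrArg Subtype.val hx)⟩, rfl⟩,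
          fun ⟨y, hy⟩ => Subtype.ext (hy ▸ LinearMap.mem_ker.1 y.2)⟩
      have hB' := ringKrullDim_away_lt hB (show f 0 ∈ IsLocalRing.maximalIdeal B from hu)
      rcases d with _ | d
      · have : Subsingleton (Localization.Away (f 0)) := by
          by_contra hs
          rw [not_subsingleton_iff_nontrivial] at hs
          exact absurd hB' (not_lt.2 (by simpa using ringKrullDim_nonneg_of_nontrivial (R := Localization.Away (f 0))))
        have : Subsingleton (LocalizedModule S M) := Module.subsingleton (Localization.Away (f 0)) _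
        exact ex_of_subsingleton f i
      · obtain ⟨k, rfl⟩ : ∃ k, i = k + 1 := ⟨i - 1, by omega⟩
        have hT : ∀ x : LocalizedModule S M ⧸ LinearMap.range l, ∃ k : ℕ, f 0 ^ k • x = 0 := by
          intro x
          obtain ⟨y, rfl⟩ := Submodule.mkQ_surjective _ x
          obtain ⟨⟨z, ⟨_, k, rfl⟩⟩, hz⟩ := IsLocalizedModule.surj S l y
          exact ⟨k, (Submodule.Quotient.mk_eq_zero _).2 ⟨z, hz.symm⟩⟩
        refine ex_left (LinearMap.range l).subtype (LinearMap.range l).mkQ (LinearMap.exact_subtype_mkQ _)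
          Subtype.val_injective (Submodule.mkQ_surjective _)
          (ex_of_algebra (B := Localization.Away (f 0)) f
            (ex_of_isUnit (v := 0) _ (IsLocalization.Away.algebraMap_isUnit (f 0)) _))
          (ex_of_torsion f hT ?_)
        refine ex_right (LinearMap.range l).subtype (LinearMap.range l).mkQ (LinearMap.exact_subtype_mkQ _)
          Subtype.val_injective (Submodule.mkQ_surjective _) ?_ (ihn _ _)
        exact ex_of_algebra (B := Localization.Away (f 0)) _
          (ihd _ hB' _ n _ k (by omega))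

end Groth.Agent.EtQC.Glob.CechAlg
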