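import Groth.Agent.EtQC.Glob.Opens
import Groth.Agent.EtQC.Glob.CechAlg
import Groth.Agent.EtQC.ToQC
import Mathlib.RingTheory.Localization.BaseChange

/-!
# Quasi-compact opens of affine objects have no cohomology from the dimension on
-/

set_option autoImplicit false
set_option backward.isDefEq.respectTransparency false
set_option backward.isDefEq.respectTransparency.types false

universe u

set_option maxHeartbeats 800000

open CategoryTheory CategoryTheory.Limits AlgebraicGeometry Opposite Abelian AlgSp TopologicalSpace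
open scoped TensorProduct

namespace Groth.Agent.EtQC.Glob

variable {S : Scheme.{u}} {X : Sp S}

/-- Affine objects. -/
def Aff (E : EtOver X) : Prop := IsAffine E.obj.left.left

/-- Cech cohomology computes vanishing of cohomology over the base. -/
theorem subsingleton_ext_of_exactAt (D : Cov (etTop X) (Aff (X := X))) :
    ∀ (j : ℕ) (G : AbEt X), IsAffAcyclic G → (∀ n, j ≤ n → ExactAt D G.obj n) →
      Subsingleton (Ext (zb D.β) G (j + 1)) := by
  intro j
  induction j with
  | zero =>
    intro G hG hD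
    let T := ShortComplex.mk (Injective.ι G) (cokernel.π _) (cokernel.condition (Injective.ι G))
    have hT : T.ShortExact := { exact := ShortComplex.exact_of_g_is_cokernel _ (cokernelIsCokernel _) }
    refine subsingleton_of_forall_eq 0 fun x => ?_
    obtain ⟨z, rfl⟩ := Ext.covariant_sequence_exact₁ _ hT x
      (haveI : Injective T.X₂ := inferInstanceAs (Injective (Injective.under G)); Ext.eq_zero_of_injective _)
      (rfl : 0 + 1 = 1)
    obtain ⟨φ, rfl⟩ := (Ext.mk₀_bijective _ _).2 z
    choose s hs using fun k => haveI : IsAffine (D.W k).obj.left.left := D.good k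
      EtQC.sections_surjective T hT hG (V := D.W k) (val φ _ (D.w k))
    obtain ⟨y, hy, hyg⟩ := exists_lift (D := D) T.f.hom T.g.hom (sec_injective T hT) (sec_exact T hT) (sec_zero T)
      (hD 0 le_rfl) (isSheaf_type _) (isSheaf_type _) (fun E b => val φ E b) (fun E E' a b => val_res φ a b) s hs
    obtain ⟨ψ, hψ⟩ := exists_val (G := T.X₂) y hy
    have hφ : ψ ≫ T.g = φ := val_ext fun E b => by rw [val_comp, hψ, hyg]
    rw [← hφ, ← Ext.mk₀_comp_mk₀, Ext.comp_assoc_of_second_deg_zero, hT.comp_extClass, Ext.comp_zero]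
  | succ j ih =>
    intro G hG hD
    let T := ShortComplex.mk (Injective.ι G) (cokernel.π _) (cokernel.condition (Injective.ι G))
    have hT : T.ShortExact := { exact := ShortComplex.exact_of_g_is_cokernel _ (cokernelIsCokernel _) }
    haveI hI : Injective T.X₂ := inferInstanceAs (Injective (Injective.under G))
    haveI hI' : Injective T.X₂.obj :=
      Injective.injective_of_adjoint (sheafificationAdjunction (etTop X) AddCommGrpCat.{u + 1}) T.X₂
    refine subsingleton_of_forall_eq 0 fun x => ?_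
    obtain ⟨z, rfl⟩ := Ext.covariant_sequence_exact₁ _ hT x (Ext.eq_zero_of_injective _) (rfl : (j + 1) + 1 = _)
    haveI := ih T.X₃ (EtQC.isAffAcyclic_X₃ T hT hG (EtQC.isAffAcyclic_of_injective T.X₂)) fun n hn =>
      exactAt_quot T.f.hom T.g.hom (sec_injective T hT) (sec_exact T hT) (sec_zero T) (hD (n + 1) (by omega))
        (exact_of_injective D T.X₂.obj n) fun E hE => haveI : IsAffine E.obj.left.left := hE
          EtQC.sections_surjective T hT hG
    rw [Subsingleton.elim z 0, Ext.zero_comp]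

section Principal

/-- A map with image in an open factors through it. -/
theorem exists_into (V : EtOver X) (A : V.obj.left.left.Opens) {E : EtOver X} (b : E ⟶ V)
    (h : ∀ x, b.hom.left.left x ∈ (A : Set ↥V.obj.left.left)) :
    ∃ g : E ⟶ AlgSpDec.etOpen V A, g ≫ AlgSpDec.etOpenι V A = b := by
  have hr : Set.range b.hom.left.left ⊆ Set.range A.ι := by
    rw [Scheme.Opens.range_ι]
    rintro _ ⟨x, rfl⟩
    exact h x
  let k : E.obj.left ⟶ (AlgSpDec.etOpen V A).obj.left :=
    CategoryTheory.Over.homMk (IsOpenImmersion.lift A.ι b.hom.left.left hr) (by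
      show IsOpenImmersion.lift A.ι _ hr ≫ A.ι ≫ V.obj.left.hom = E.obj.left.hom
      rw [← Category.assoc, IsOpenImmersion.lift_fac]
      exact CategoryTheory.Over.w b.hom.left)
  have hk : k ≫ (AlgSpDec.etOpenι V A).hom.left = b.hom.left :=
    CategoryTheory.Over.OverMorphism.ext (IsOpenImmersion.lift_fac _ _ hr)
  refine ⟨EtOver.homMk k ?_, EtOver.hom_ext _ _ hk⟩
  rw [← EtOver.w (AlgSpDec.etOpenι V A), ← Category.assoc, ← Functor.map_comp, hk]
  exact EtOver.w b

theorem hom_ext_into (V : EtOver X) (A : V.obj.left.left.Opens) {E : EtOver X} (g g' : E ⟶ AlgSpDec.etOpen V A)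
    (h : g ≫ AlgSpDec.etOpenι V A = g' ≫ AlgSpDec.etOpenι V A) : g = g' :=
  EtOver.hom_ext _ _ (CategoryTheory.Over.OverMorphism.ext
    ((cancel_mono A.ι).1 (congrArg (fun m => m.hom.left.left) h)))

variable (V : EtOver X) [IsAffine V.obj.left.left]

/-- A basic open subobject. -/
noncomputable abbrev dObj (a : Fn V) : EtOver X := AlgSpDec.etOpen V (V.obj.left.left.basicOpen a)

/-- Its inclusion. -/
noncomputable abbrev dι (a : Fn V) : dObj V a ⟶ V := AlgSpDec.etOpenι V (V.obj.left.left.basicOpen a)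

instance isAffine_dObj (a : Fn V) : IsAffine (dObj V a).obj.left.left := (isAffineOpen_top _).basicOpen a

theorem isLocalization_dι (a : Fn V) :
    letI := (fmap (dι V a)).toAlgebra
    IsLocalization.Away a (Fn (dObj V a)) := by
  letI := (fmap (dι V a)).toAlgebra
  haveI := (isAffineOpen_top V.obj.left.left).isLocalization_basicOpen a
  refine IsLocalization.isLocalization_of_algEquiv (S := Γ(V.obj.left.left, V.obj.left.left.basicOpen a))
    (Submonoid.powers a) (AlgEquiv.ofRingEquiv
      (f := (Scheme.Opens.topIso (V.obj.left.left.basicOpen a)).symm.commRingCatIsoToRingEquiv) fun r => ?_)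
  have e : V.obj.left.left.presheaf.map (homOfLE (V.obj.left.left.basicOpen_le a)).op ≫
      (Scheme.Opens.topIso (V.obj.left.left.basicOpen a)).inv = (V.obj.left.left.basicOpen a).ι.appTop := by
    simp [Scheme.Opens.topIso, ← Functor.map_comp]
  exact congrArg (fun φ : Γ(V.obj.left.left, ⊤) ⟶ Γ((V.obj.left.left.basicOpen a).toScheme, ⊤) => φ.hom r) e

variable {M : ModEt X} (hM : BCAll M)

include hM

theorem exists_num (a : Fn V) (y : sectModEt M (dObj V a)) :
    ∃ (k : ℕ) (m : sectModEt M V), fmap (dι V a) a ^ k • y = res M (dι V a) m := by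
  letI := (fmap (dι V a)).toAlgebra
  haveI := isLocalization_dι V a
  obtain ⟨z, rfl⟩ := (hM V ‹_› (dObj V a) (dι V a) inferInstance).2 y
  obtain ⟨⟨m, ⟨_, k, rfl⟩⟩, hm⟩ := IsLocalizedModule.surj (Submonoid.powers a)
    (TensorProduct.mk (Fn V) (Fn (dObj V a)) (sectModEt M V) 1) z
  refine ⟨k, m, ?_⟩
  have h := congrArg (gam (RingHom.id (Fn (dObj V a))) (res M (dι V a)) (res_smul' M (dι V a))) hm
  change gam _ _ _ (a ^ k • z) = gam _ _ _ ((1 : Fn (dObj V a)) ⊗ₜ[Fn V] m) at h
  rw [gam_tmul, map_one, one_smul] at h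
  rw [← h]
  clear h hm
  induction z using TensorProduct.induction_on with
  | zero => simp
  | add x y hx hy => simp only [map_add, smul_add, hx, hy]
  | tmul b n =>
    rw [TensorProduct.smul_tmul', gam_tmul, gam_tmul, Algebra.smul_def, RingHom.id_apply, RingHom.id_apply,
      ← map_pow, smul_smul]
    rfl

theorem exists_pow_zero (a : Fn V) (m : sectModEt M V) (h : res M (dι V a) m = 0) : ∃ k : ℕ, a ^ k • m = 0 := by
  letI := (fmap (dι V a)).toAlgebra
  haveI := isLocalization_dι V a
  have h1 : TensorProduct.mk (Fn V) (Fn (dObj V a)) (sectModEt M V) 1 m = 0 :=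
    (hM V ‹_› (dObj V a) (dι V a) inferInstance).1 (by
      rw [map_zero, TensorProduct.mk_apply, gam_tmul, map_one, one_smul, h])
  obtain ⟨⟨_, k, rfl⟩, hk⟩ := (IsLocalizedModule.eq_zero_iff (Submonoid.powers a) _).1 h1
  exact ⟨k, hk⟩

omit hM

/-- Finitely many principal opens covering an open. -/
noncomputable def covPrin {n : ℕ} (f : Fin n → Fn V) :
    Cov (etTop X) (Aff (X := X)) where
  β := sub V ((⨆ k, V.obj.left.left.basicOpen (f k) : V.obj.left.left.Opens) : Set ↥V.obj.left.left)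
  m := n
  W k := dObj V (f k)
  w k := (⟨dι V (f k), fun x => le_iSup (fun k => V.obj.left.left.basicOpen (f k)) k
    (etOpen_lift (V.obj.left.left.basicOpen (f k)) x)⟩ :
    SubEl V ((⨆ k, V.obj.left.left.basicOpen (f k) : V.obj.left.left.Opens) : Set ↥V.obj.left.left) (dObj V (f k)))
  good k := isAffine_dObj V (f k)
  meet {A A'} a a' hA hA' := ⟨EtOver.pullbackObj (SubEl.hom a) (SubEl.hom a'), EtOver.pullbackFst _ _,
    EtOver.pullbackSnd _ _,
    (haveI : IsAffine A.obj.left.left := hA; haveI : IsAffine A'.obj.left.left := hA'; isAffine_pullbackObj _ _),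
    SubEl.ext (EtOver.pullback_condition (SubEl.hom a) (SubEl.hom a')), fun {T} g g' h => by
      have h' : g ≫ SubEl.hom a = g' ≫ SubEl.hom a' := congrArg
        (fun t : SubEl V ((⨆ k, V.obj.left.left.basicOpen (f k) : V.obj.left.left.Opens) : Set ↥V.obj.left.left) T =>
          t.hom) h
      exact ⟨(EtOver.isPullback _ _).lift g g' h', ⟨(EtOver.isPullback _ _).lift_fst _ _ h',
        (EtOver.isPullback _ _).lift_snd _ _ h'⟩, fun k hk => (EtOver.isPullback _ _).hom_ext
          (hk.1.trans ((EtOver.isPullback _ _).lift_fst _ _ h').symm)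
          (hk.2.trans ((EtOver.isPullback _ _).lift_snd _ _ h').symm)⟩⟩
  cover T b := by
    let Y : ULift.{u + 1} (Fin n) → EtOver X := fun k =>
      AlgSpDec.etOpen T ((SubEl.hom b).hom.left.left ⁻¹ᵁ V.obj.left.left.basicOpen (f k.down))
    refine ⟨Sieve.ofArrows Y fun k => AlgSpDec.etOpenι T _, AlgSpDec.ofArrows_mem_etTop Y _ fun x => ?_,
      fun T' a ha => ?_⟩
    · obtain ⟨k, hk⟩ := Opens.mem_iSup.1 (SubEl.mem b x)
      exact ⟨⟨k⟩, by rw [AlgSpDec.range_etOpenι]; exact hk⟩
    · obtain ⟨⟨k⟩, l, hl⟩ := (Sieve.mem_ofArrows_iff _ _ _).1 ha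
      have hr : ∀ x, (a ≫ SubEl.hom b).hom.left.left x ∈ (V.obj.left.left.basicOpen (f k) : Set ↥V.obj.left.left) := by
        intro x
        rw [hl]
        exact etOpen_lift ((SubEl.hom b).hom.left.left ⁻¹ᵁ V.obj.left.left.basicOpen (f k)) (l.hom.left.left x)
      obtain ⟨g, hg⟩ : ∃ g : T' ⟶ dObj V (f k), g ≫ dι V (f k) = a ≫ SubEl.hom b := by
        exact exists_into V _ _ hr
      exact ⟨k, g, SubEl.ext hg⟩

theorem mem_basicOpen_pr {Y : Scheme.{u}} {ι : Type} (f : ι → Γ(Y, ⊤)) {i : ℕ} (p : Fin i → ι) (y : Y) :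
    y ∈ Y.basicOpen (CechAlg.pr f p) ↔ ∀ j, y ∈ Y.basicOpen (f (p j)) := by
  simp only [Y.mem_basicOpen_top, CechAlg.pr, map_prod, IsUnit.prod_iff, Finset.mem_univ, true_implies]

theorem isUnit_fmap_dι (a : Fn V) : IsUnit (fmap (dι V a) a) := by
  letI := (fmap (dι V a)).toAlgebra
  haveI := isLocalization_dι V a
  exact IsLocalization.Away.algebraMap_isUnit a

variable {n : ℕ} (f : Fin n → Fn V)

theorem exists_face_lift {i : ℕ} (p : Fin (i + 1) → Fin n) (j : Fin (i + 1)) :
    ∃ g : dObj V (CechAlg.pr f p) ⟶ dObj V (f (p j)), g ≫ dι V (f (p j)) = dι V (CechAlg.pr f p) :=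
  exists_into V _ _ fun x => (mem_basicOpen_pr f p _).1 (etOpen_lift _ x) j

theorem exists_face_map {i : ℕ} (p : Fin (i + 2) → Fin n) (j : Fin (i + 2)) :
    ∃ g : dObj V (CechAlg.pr f p) ⟶ dObj V (CechAlg.pr f (p ∘ j.succAbove)),
      g ≫ dι V (CechAlg.pr f (p ∘ j.succAbove)) = dι V (CechAlg.pr f p) :=
  exists_into V _ _ fun x => (mem_basicOpen_pr f _ _).2 fun _ => (mem_basicOpen_pr f p _).1 (etOpen_lift _ x) _

/-- The universal tuple on an intersection of principal opens. -/
noncomputable def prinTup {i : ℕ} (p : Fin (i + 1) → Fin n) :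
    (covPrin V f).Tup i (dObj V (CechAlg.pr f p)) :=
  ⟨fun j => ⟨⟨p j⟩, (exists_face_lift V f p j).choose⟩, fun a b =>
    SubEl.ext ((exists_face_lift V f p a).choose_spec.trans (exists_face_lift V f p b).choose_spec.symm)⟩

variable {V f} {i : ℕ}

/-- The indices of a tuple. -/
def idx {T : EtOver X} (t : (covPrin V f).Tup i T) : Fin (i + 1) → Fin n := fun j => (t.1 j).1.down

/-- The composite of a tuple to the object. -/
noncomputable def tbase {T : EtOver X} (t : (covPrin V f).Tup i T) : T ⟶ V := (t.1 0).2 ≫ dι V (f (idx t 0))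

theorem tbase_eq {T : EtOver X} (t : (covPrin V f).Tup i T) (j : Fin (i + 1)) :
    (t.1 j).2 ≫ dι V (f (idx t j)) = tbase t :=
  congrArg (fun e : SubEl V ((⨆ k, V.obj.left.left.basicOpen (f k) : V.obj.left.left.Opens) : Set ↥V.obj.left.left) T =>
    e.hom) (t.2 j 0)

theorem exists_tup_lift {T : EtOver X} (t : (covPrin V f).Tup i T) :
    ∃ g : T ⟶ dObj V (CechAlg.pr f (idx t)), g ≫ dι V (CechAlg.pr f (idx t)) = tbase t :=
  exists_into V _ _ fun x => (mem_basicOpen_pr f _ _).2 fun j => by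
    rw [← tbase_eq t j]
    exact etOpen_lift (V.obj.left.left.basicOpen (f (idx t j))) ((t.1 j).2.hom.left.left x)

theorem prinTup_res {T : EtOver X} (t : (covPrin V f).Tup i T) (g : T ⟶ dObj V (CechAlg.pr f (idx t)))
    (hg : g ≫ dι V (CechAlg.pr f (idx t)) = tbase t) : (prinTup V f (idx t)).res g = t :=
  Subtype.ext (funext fun j => congrArg (Sigma.mk (t.1 j).1) (hom_ext_into V _ _ _ (by
    refine (Category.assoc _ _ _).trans ?_
    exact ((congrArg (g ≫ ·) (exists_face_lift V f (idx t) j).choose_spec).trans hg).trans (tbase_eq t j).symm)))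

theorem prinTup_face (p : Fin (i + 2) → Fin n) (j : Fin (i + 2))
    (g : dObj V (CechAlg.pr f p) ⟶ dObj V (CechAlg.pr f (p ∘ j.succAbove)))
    (hg : g ≫ dι V (CechAlg.pr f (p ∘ j.succAbove)) = dι V (CechAlg.pr f p)) :
    (prinTup V f p).face j = (prinTup V f (p ∘ j.succAbove)).res g :=
  Subtype.ext (funext fun l => congrArg (Sigma.mk _) (hom_ext_into V _ _ _ (by
    refine (exists_face_lift V f p (j.succAbove l)).choose_spec.trans ?_
    refine Eq.trans ?_ (Category.assoc _ _ _).symm
    exact hg.symm.trans (congrArg (g ≫ ·) (exists_face_lift V f (p ∘ j.succAbove) l).choose_spec.symm))))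

/-- The value of a cochain on a universal tuple, as a section of the module. -/
noncomputable def cval {M : ModEt X} (c : Coch (covPrin V f) ((toAbEt X).obj M).obj i) (q : Fin (i + 1) → Fin n) :
    sectModEt M (dObj V (CechAlg.pr f q)) := c _ (prinTup V f q)

/-- Scaled values of a differential. -/
theorem smul_δ {M : ModEt X} (c : Coch (covPrin V f) ((toAbEt X).obj M).obj i) (hc : IsNat c) (N : ℕ)
    (a : (Fin (i + 1) → Fin n) → sectModEt M V)
    (ha : ∀ q, fmap (dι V (CechAlg.pr f q)) (CechAlg.pr f q) ^ N •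
      cval c q = res M (dι V (CechAlg.pr f q)) (a q))
    (p : Fin (i + 2) → Fin n) :
    fmap (dι V (CechAlg.pr f p)) (CechAlg.pr f p) ^ N •
      cval (δ c) p =
        res M (dι V (CechAlg.pr f p)) (CechAlg.dlt f N a p) := by
  let cf : Fin (i + 2) → sectModEt M (dObj V (CechAlg.pr f p)) := fun j => c _ ((prinTup V f p).face j)
  show fmap (dι V (CechAlg.pr f p)) (CechAlg.pr f p) ^ N • (∑ j : Fin (i + 2), (-1 : ℤ) ^ (j : ℕ) • cf j) = _
  rw [Finset.smul_sum, CechAlg.dlt, map_sum]
  refine Finset.sum_congr rfl fun j _ => ?_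
  obtain ⟨g, hg⟩ := exists_face_map V f p j
  rw [smul_comm, map_zsmul]
  simp only [cf]
  rw [prinTup_face p j g hg, hc]
  refine congrArg (fun y => (-1 : ℤ) ^ (j : ℕ) • y) ?_
  show fmap (dι V (CechAlg.pr f p)) (CechAlg.pr f p) ^ N • res M g (cval c (p ∘ j.succAbove)) = _
  have e := congrArg (fmap (dι V (CechAlg.pr f p))) (CechAlg.pr_succAbove f p j)
  rw [map_mul] at e
  rw [res_smul, e, mul_pow, ← map_pow, ← map_pow, ← smul_smul]
  refine congrArg (fun y => fmap (dι V _) (f (p j) ^ N) • y) ?_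
  rw [← hg, fmap_comp, res_comp, map_pow, map_pow, ← ha, res_smul, map_pow]

variable (V f)

/-- No Cech cohomology from the dimension on. -/
theorem exactAt_covPrin {M : ModEt X} (hM : BCAll M) {d : ℕ} (hd : ringKrullDim (Fn V) < (d : ℕ)) (i : ℕ)
    (hi : d ≤ i + 2) : ExactAt (covPrin V f) ((toAbEt X).obj M).obj i := by
  classical
  intro c hc hδ
  choose k m hkm using fun p : Fin (i + 2) → Fin n =>
    exists_num V hM (CechAlg.pr f p) (cval c p)
  let N := ∑ p, k p
  let a₀ : (Fin (i + 2) → Fin n) → sectModEt M V := fun p => CechAlg.pr f p ^ (N - k p) • m p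
  have ha₀ : ∀ p, fmap (dι V (CechAlg.pr f p)) (CechAlg.pr f p) ^ N •
      cval c p = res M (dι V (CechAlg.pr f p)) (a₀ p) := fun p => by
    rw [res_smul, map_pow, ← hkm, smul_smul, ← pow_add,
      Nat.sub_add_cancel (Finset.single_le_sum (fun q _ => Nat.zero_le (k q)) (Finset.mem_univ p) : k p ≤ N)]
  choose k' hk' using fun p : Fin (i + 3) → Fin n => exists_pow_zero V hM (CechAlg.pr f p)
    (CechAlg.dlt f N a₀ p) (by
      rw [← smul_δ c hc N a₀ ha₀ p]
      have h0 : cval (δ c) p = 0 := hδ _ _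
      rw [h0, smul_zero])
  let K₀ := ∑ p, k' p
  let a : (Fin (i + 2) → Fin n) → sectModEt M V := fun p => CechAlg.pr f p ^ K₀ • a₀ p
  obtain ⟨K, b, hb⟩ := CechAlg.ex_of_dim.{u, u + 1} d (Fn V) hd (sectModEt M V) n f (i + 1) hi (N + K₀) a fun p => by
    show CechAlg.dlt f (N + K₀) (fun q => CechAlg.pr f q ^ K₀ • a₀ q) p = 0
    obtain ⟨r, hr⟩ : ∃ r, K₀ = r + k' p := Nat.exists_eq_add_of_le'
      (Finset.single_le_sum (fun q _ => Nat.zero_le (k' q)) (Finset.mem_univ p) : k' p ≤ K₀)
    rw [CechAlg.dlt_raise, hr, pow_add, ← smul_smul, hk', smul_zero]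
  let T := N + K₀ + K
  choose u hu using fun q : Fin (i + 1) → Fin n =>
    ((isUnit_fmap_dι V (CechAlg.pr f q)).pow T).exists_left_inv
  let x : ∀ q : Fin (i + 1) → Fin n, sectModEt M (dObj V (CechAlg.pr f q)) := fun q =>
    u q • res M (dι V (CechAlg.pr f q)) (b q)
  choose lf hlf using fun (T : EtOver X) (t : (covPrin V f).Tup i T) => exists_tup_lift t
  let c₀ : Coch (covPrin V f) ((toAbEt X).obj M).obj i := fun T t => res M (lf T t) (x (idx t))
  have hc₀ : IsNat c₀ := fun T T' g t => by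
    show res M (lf T' (t.res g)) (x (idx t)) = res M g (res M (lf T t) (x (idx t)))
    rw [← res_comp]
    refine congrArg (fun l => res M l (x (idx t))) (hom_ext_into V _ _ _ ?_)
    refine (hlf T' (t.res g)).trans ?_
    refine Eq.trans ?_ (Category.assoc _ _ _).symm
    exact (Category.assoc _ _ _).trans (congrArg (g ≫ ·) (hlf T t).symm)
  have hx : ∀ q, fmap (dι V (CechAlg.pr f q)) (CechAlg.pr f q) ^ T •
      cval c₀ q = res M (dι V (CechAlg.pr f q)) (b q) :=
    fun q => by
    have e : lf _ (prinTup V f q) = 𝟙 (dObj V (CechAlg.pr f q)) := hom_ext_into V _ _ _ (by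
      refine (hlf _ (prinTup V f q)).trans ?_
      exact (exists_face_lift V f q 0).choose_spec.trans (Category.id_comp _).symm)
    show _ • res M (lf _ (prinTup V f q)) (x q) = _
    rw [e]
    refine (congrArg (fun y => fmap (dι V (CechAlg.pr f q)) (CechAlg.pr f q) ^ T • y) (res_id M (x q))).trans ?_
    show _ • u q • _ = _
    rw [smul_smul, mul_comm, hu, one_smul]
  refine ⟨c₀, hc₀, fun T' t => ?_⟩
  obtain ⟨g, hg⟩ := exists_tup_lift t
  rw [← prinTup_res t g hg, hc₀.δ, hc]
  refine congrArg (res M g) ?_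
  show cval (δ c₀) (idx t) = cval c (idx t)
  refine ((isUnit_fmap_dι V (CechAlg.pr f (idx t))).pow T).smul_left_cancel.1 ?_
  rw [smul_δ c₀ hc₀ T b hx (idx t), ← hb]
  show res M _ (CechAlg.pr f (idx t) ^ K • CechAlg.pr f (idx t) ^ K₀ • a₀ (idx t)) = _
  rw [smul_smul, ← pow_add, res_smul, map_pow, ← ha₀, smul_smul, ← pow_add,
    show K + K₀ + N = T by simp only [T]; omega]

/-- Quasi-compact opens of an affine object of dimension less than `d` have no cohomology from degree `d - 1` on. -/
theorem subsingleton_ext_qcOpen {M : ModEt X} (hM : BCAll M) {d : ℕ} (hd : ringKrullDim (Fn V) < (d : ℕ))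
    (W : V.obj.left.left.Opens) (hW : IsCompact (W : Set ↥V.obj.left.left)) (j : ℕ) (hj : d ≤ j + 2) :
    Subsingleton (Ext (zb (sub V W)) ((toAbEt X).obj M) (j + 1)) := by
  choose a ha hxa using fun x : W => (isAffineOpen_top V.obj.left.left).exists_basicOpen_le (V := W) x trivial
  obtain ⟨t, ht⟩ := hW.elim_finite_subcover (fun x : W => (V.obj.left.left.basicOpen (a x) : Set ↥V.obj.left.left))
    (fun x => (V.obj.left.left.basicOpen (a x)).isOpen) fun x hx => Set.mem_iUnion.2 ⟨⟨x, hx⟩, hxa ⟨x, hx⟩⟩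
  let f : Fin t.card → Fn V := fun k => a (t.equivFin.symm k).1
  have hU : (⨆ k, V.obj.left.left.basicOpen (f k)) = W := by
    refine le_antisymm (iSup_le fun k => ha _) fun x hx => ?_
    obtain ⟨y, hy, hxy⟩ := Set.mem_iUnion₂.1 (ht hx)
    refine Opens.mem_iSup.2 ⟨t.equivFin ⟨y, hy⟩, ?_⟩
    simpa [f] using hxy
  rw [← hU]
  exact subsingleton_ext_of_exactAt (covPrin V f) j _ (isAffAcyclic_of_bcAll hM)
    fun i hi => exactAt_covPrin V f hM hd i (by omega)

end Principal

end Groth.Agent.EtQC.Glob
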