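import Groth.Agent.EtFound.FilteredSectionsGen
import Mathlib.GroupTheory.FreeAbelianGroup
import Mathlib.Algebra.Homology.ShortComplex.Exact
import Mathlib.CategoryTheory.Abelian.FunctorCategory
import Mathlib.Algebra.Category.Grp.Abelian
import Mathlib.Tactic.Abel

/-!
# Cech cochains for coverings of possibly non-representable bases

A base is a presheaf of sets `β` (a representable one, or the point), covered by finitely many good objects.
-/

set_option autoImplicit false
set_option backward.isDefEq.respectTransparency false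
set_option backward.isDefEq.respectTransparency.types false

universe u

open CategoryTheory CategoryTheory.Limits Opposite

namespace Groth.Agent.EtQC.Glob

section Alt

variable {L : Type*} {A : Type*} [AddCommGroup A]

/-- Alternating sum over the faces. -/
def altSum {n : ℕ} (c : (Fin n → L) → A) (p : Fin (n + 1) → L) : A :=
  ∑ j : Fin (n + 1), (-1 : ℤ) ^ (j : ℕ) • c (p ∘ j.succAbove)

theorem altSum_cons {n : ℕ} (c : (Fin (n + 1) → L) → A) (a : L) (q : Fin (n + 1) → L) :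
    altSum c (Fin.cons a q : Fin (n + 2) → L) = c q - altSum (fun r : Fin n → L => c (Fin.cons a r)) q := by
  rw [altSum, Fin.sum_univ_succ, sub_eq_add_neg, altSum, ← Finset.sum_neg_distrib]
  refine congrArg₂ (· + ·) ?_ (Finset.sum_congr rfl fun j _ => ?_)
  · have e : (Fin.cons a q : Fin (n + 2) → L) ∘ (0 : Fin (n + 2)).succAbove = q := funext fun k => by simp
    rw [e, Fin.val_zero, pow_zero, one_zsmul]
  · have e : (Fin.cons a q : Fin (n + 2) → L) ∘ j.succ.succAbove = Fin.cons a (q ∘ j.succAbove) := funext fun k => by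
      induction k using Fin.cases with
      | zero => simp
      | succ k => simp
    rw [e, Fin.val_succ, pow_succ, mul_neg_one, neg_zsmul]

theorem altSum_sub {n : ℕ} (c d : (Fin n → L) → A) (p : Fin (n + 1) → L) :
    altSum (fun r => c r - d r) p = altSum c p - altSum d p := by
  simp only [altSum, zsmul_sub, Finset.sum_sub_distrib]

theorem altSum_altSum : ∀ {n : ℕ} (c : (Fin n → L) → A) (p : Fin (n + 2) → L), altSum (altSum c) p = 0 := by
  intro n
  induction n with
  | zero =>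
    intro c p
    have h : ∀ a b : Fin 0 → L, c a = c b := fun a b => congrArg c (Subsingleton.elim _ _)
    refine (Fin.sum_univ_two (f := fun j : Fin 2 => (-1 : ℤ) ^ (j : ℕ) • altSum c (p ∘ j.succAbove))).trans ?_
    have e : ∀ r : Fin 1 → L, altSum c r = c Fin.elim0 := fun r =>
      (Fin.sum_univ_one _).trans (by simp only [Fin.val_zero, pow_zero, one_zsmul]; exact h _ _)
    simp only [e, Fin.val_zero, Fin.val_one, pow_zero, pow_one, one_zsmul, neg_zsmul]
    exact add_neg_cancel _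
  | succ n ih =>
    intro c p
    rw [← Fin.cons_self_tail p, altSum_cons]
    have e : (fun r : Fin (n + 1) → L => altSum c (Fin.cons (p 0) r : Fin (n + 2) → L)) =
        fun r => c r - altSum (fun s : Fin n → L => c (Fin.cons (p 0) s)) r := funext fun r => altSum_cons c _ r
    rw [e, altSum_sub, ih, sub_zero, sub_self]

end Alt

variable {C : Type (u + 1)} [Category.{u} C] {J : GrothendieckTopology C} {B : C → Prop}

variable (J B) in
/-- A base covered by finitely many good objects, good objects being closed under products over the base. -/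
structure Cov where
  /-- The base. -/
  β : Cᵒᵖ ⥤ Type (u + 1)
  /-- The number of members. -/
  m : ℕ
  /-- The members. -/
  W : Fin m → C
  /-- Their maps to the base. -/
  w : ∀ k, β.obj (op (W k))
  good : ∀ k, B (W k)
  meet : ∀ {A A' : C} (a : β.obj (op A)) (a' : β.obj (op A')), B A → B A' →
    ∃ (P : C) (p : P ⟶ A) (q : P ⟶ A'), B P ∧ β.map p.op a = β.map q.op a' ∧
      ∀ {T : C} (f : T ⟶ A) (g : T ⟶ A'), β.map f.op a = β.map g.op a' → ∃! h : T ⟶ P, h ≫ p = f ∧ h ≫ q = g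
  cover : ∀ (T : C) (b : β.obj (op T)), ∃ R ∈ J T, ∀ ⦃T' : C⦄ (a : T' ⟶ T), R a →
    ∃ (k : Fin m) (l : T' ⟶ W k), β.map l.op (w k) = β.map a.op b

variable (D : Cov J B)

/-- A map to a member. -/
abbrev Cov.L (T : C) : Type (u + 1) := Σ k : ULift.{u + 1} (Fin D.m), (T ⟶ D.W k.down)

variable {D}

/-- The image in the base. -/
def Cov.base {T : C} (l : D.L T) : D.β.obj (op T) := D.β.map l.2.op (D.w l.1.down)

/-- Precomposition. -/
def Cov.res {T T' : C} (a : T' ⟶ T) (l : D.L T) : D.L T' := ⟨l.1, a ≫ l.2⟩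

theorem Cov.base_res {T T' : C} (a : T' ⟶ T) (l : D.L T) : Cov.base (Cov.res a l) = D.β.map a.op (Cov.base l) := by
  show D.β.map (a ≫ l.2).op _ = _
  rw [op_comp, Functor.map_comp_apply]
  rfl

theorem Cov.res_id {T : C} (l : D.L T) : Cov.res (𝟙 T) l = l := by
  obtain ⟨k, f⟩ := l; simp [Cov.res]

variable (D)

/-- Tuples with a common image in the base. -/
abbrev Cov.Tup (n : ℕ) (T : C) : Type (u + 1) :=
  { p : Fin (n + 1) → D.L T // ∀ i j, Cov.base (p i) = Cov.base (p j) }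

variable {D}

/-- Precomposition of tuples. -/
def Cov.Tup.res {n : ℕ} {T T' : C} (a : T' ⟶ T) (p : D.Tup n T) : D.Tup n T' :=
  ⟨fun i => Cov.res a (p.1 i), fun i j => by rw [Cov.base_res, Cov.base_res, p.2 i j]⟩

/-- Faces of tuples. -/
def Cov.Tup.face {n : ℕ} {T : C} (p : D.Tup (n + 1) T) (j : Fin (n + 2)) : D.Tup n T :=
  ⟨p.1 ∘ j.succAbove, fun i i' => p.2 _ _⟩

theorem Cov.Tup.face_res {n : ℕ} {T T' : C} (a : T' ⟶ T) (p : D.Tup (n + 1) T) (j : Fin (n + 2)) :
    (p.res a).face j = (p.face j).res a := rfl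

/-- A single map as a tuple. -/
def Cov.one {T : C} (l : D.L T) : D.Tup 0 T := ⟨fun _ => l, fun _ _ => rfl⟩

variable (D)

/-- Cochains. -/
abbrev Coch (P : Cᵒᵖ ⥤ AddCommGrpCat.{u + 1}) (n : ℕ) : Type (u + 1) := ∀ T : C, D.Tup n T → P.obj (op T)

variable {D}

/-- Naturality of cochains. -/
def IsNat {P : Cᵒᵖ ⥤ AddCommGrpCat.{u + 1}} {n : ℕ} (c : Coch D P n) : Prop :=
  ∀ (T T' : C) (a : T' ⟶ T) (p : D.Tup n T), c T' (p.res a) = (P.map a.op).hom (c T p)

/-- The differential. -/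
def δ {P : Cᵒᵖ ⥤ AddCommGrpCat.{u + 1}} {n : ℕ} (c : Coch D P n) : Coch D P (n + 1) :=
  fun T p => ∑ j : Fin (n + 2), (-1 : ℤ) ^ (j : ℕ) • c T (p.face j)

theorem IsNat.δ {P : Cᵒᵖ ⥤ AddCommGrpCat.{u + 1}} {n : ℕ} {c : Coch D P n} (hc : IsNat c) : IsNat (δ c) := by
  intro T T' a p
  show ∑ j : Fin (n + 2), _ = _
  rw [Glob.δ, map_sum]
  refine Finset.sum_congr rfl fun j _ => ?_
  rw [map_zsmul, Cov.Tup.face_res, hc]

theorem δ_δ {P : Cᵒᵖ ⥤ AddCommGrpCat.{u + 1}} {n : ℕ} (c : Coch D P n) (T : C) (p : D.Tup (n + 2) T) :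
    δ (δ c) T p = 0 := by
  classical
  let e : (Fin (n + 1) → D.L T) → P.obj (op T) := fun r =>
    if h : ∀ i j, Cov.base (r i) = Cov.base (r j) then c T ⟨r, h⟩ else 0
  refine Eq.trans ?_ (altSum_altSum e p.1)
  refine Finset.sum_congr rfl fun j _ => congrArg (fun y => (-1 : ℤ) ^ (j : ℕ) • y) ?_
  refine Finset.sum_congr rfl fun i _ => congrArg (fun y => (-1 : ℤ) ^ (i : ℕ) • y) ?_
  show _ = e ((p.face j).face i).1
  simp only [e]
  rw [dif_pos ((p.face j).face i).2]

theorem δ_map {P Q : Cᵒᵖ ⥤ AddCommGrpCat.{u + 1}} (g : P ⟶ Q) {n : ℕ} (c : Coch D P n) (T : C)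
    (p : D.Tup (n + 1) T) : δ (fun T q => (g.app (op T)).hom (c T q)) T p = (g.app (op T)).hom (δ c T p) := by
  simp only [δ, map_sum, map_zsmul]

theorem IsNat.map {P Q : Cᵒᵖ ⥤ AddCommGrpCat.{u + 1}} (g : P ⟶ Q) {n : ℕ} {c : Coch D P n} (hc : IsNat c) :
    IsNat (fun T q => (g.app (op T)).hom (c T q)) := fun T T' a p => by
  show (g.app (op T')).hom (c T' _) = _
  rw [hc]
  exact ConcreteCategory.congr_hom (g.naturality a.op) _

theorem IsNat.sub {P : Cᵒᵖ ⥤ AddCommGrpCat.{u + 1}} {n : ℕ} {c d : Coch D P n} (hc : IsNat c) (hd : IsNat d) :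
    IsNat (fun T q => c T q - d T q) := fun T T' a p => by
  show c T' _ - d T' _ = _
  rw [hc, hd, map_sub]

theorem δ_sub {P : Cᵒᵖ ⥤ AddCommGrpCat.{u + 1}} {n : ℕ} (c d : Coch D P n) (T : C) (p : D.Tup (n + 1) T) :
    δ (fun T q => c T q - d T q) T p = δ c T p - δ d T p := by
  simp only [δ, zsmul_sub, Finset.sum_sub_distrib]

/-- In degree zero the differential is a difference. -/
theorem δ_zero {P : Cᵒᵖ ⥤ AddCommGrpCat.{u + 1}} (c : Coch D P 0) (T : C) (p : D.Tup 1 T) :
    δ c T p = c T (Cov.one (p.1 1)) - c T (Cov.one (p.1 0)) := by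
  have f0 : p.face 0 = Cov.one (p.1 1) :=
    Subtype.ext (funext fun k => by obtain rfl := Fin.fin_one_eq_zero k; rfl)
  have f1 : p.face 1 = Cov.one (p.1 0) :=
    Subtype.ext (funext fun k => by obtain rfl := Fin.fin_one_eq_zero k; rfl)
  rw [δ, Fin.sum_univ_two, f0, f1]
  simp [sub_eq_add_neg]

variable (D)

/-- No higher Cech cohomology. -/
def Cov.Exact (P : Cᵒᵖ ⥤ AddCommGrpCat.{u + 1}) : Prop :=
  ∀ (n : ℕ) (c : Coch D P (n + 1)), IsNat c → (∀ T p, δ c T p = 0) →
    ∃ b : Coch D P n, IsNat b ∧ ∀ T p, δ b T p = c T p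

section Rep

/-- Universal tuples with given indices. -/
theorem exists_rep : ∀ (n : ℕ) (i : Fin (n + 1) → ULift.{u + 1} (Fin D.m)),
    ∃ (P : C) (π : ∀ k, P ⟶ D.W (i k).down), B P ∧
      (∀ k k', D.β.map (π k).op (D.w (i k).down) = D.β.map (π k').op (D.w (i k').down)) ∧
      ∀ (T : C) (f : ∀ k, T ⟶ D.W (i k).down),
        (∀ k k', D.β.map (f k).op (D.w (i k).down) = D.β.map (f k').op (D.w (i k').down)) →
          ∃! h : T ⟶ P, ∀ k, h ≫ π k = f k := by
  intro n
  induction n with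
  | zero =>
    intro i
    refine ⟨D.W (i 0).down, fun k => eqToHom (by rw [Fin.fin_one_eq_zero k]), D.good _,
      fun k k' => by obtain rfl := Fin.fin_one_eq_zero k; obtain rfl := Fin.fin_one_eq_zero k'; rfl,
      fun T f _ => ⟨f 0, fun k => ?_, fun h hh => ?_⟩⟩
    · obtain rfl := Fin.fin_one_eq_zero k
      simp
    · have := hh 0
      simpa using this
  | succ n ih =>
    intro i
    obtain ⟨P', π', hP', hπ', hu'⟩ := ih (fun k => i k.succ)
    obtain ⟨P, p, q, hP, hpq, hu⟩ := D.meet (D.w (i 0).down) (D.β.map (π' 0).op (D.w (i (Fin.succ 0)).down))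
      (D.good _) hP'
    have hb : ∀ k : Fin (n + 1), D.β.map (q ≫ π' k).op (D.w (i k.succ).down) =
        D.β.map p.op (D.w (i 0).down) := fun k => by
      rw [hpq, op_comp, Functor.map_comp_apply]
      exact congrArg _ (hπ' k 0)
    let π : ∀ k, P ⟶ D.W (i k).down := fun k =>
      Fin.cases (motive := fun k => P ⟶ D.W (i k).down) p (fun k => q ≫ π' k) k
    have hπ : ∀ k, D.β.map (π k).op (D.w (i k).down) = D.β.map p.op (D.w (i 0).down) := fun k => by
      induction k using Fin.cases with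
      | zero => rfl
      | succ k => exact hb k
    refine ⟨P, π, hP, fun k k' => (hπ k).trans (hπ k').symm, fun T f hf => ?_⟩
    obtain ⟨h', hh', huniq'⟩ := hu' T (fun k => f k.succ) (fun k k' => hf _ _)
    obtain ⟨h, ⟨hh1, hh2⟩, huniq⟩ := hu (f 0) h' (by
      rw [← Functor.map_comp_apply, ← op_comp, hh' 0]
      exact hf _ _)
    refine ⟨h, fun k => ?_, fun g hg => huniq g ⟨hg 0, huniq' _ fun k => ?_⟩⟩
    · induction k using Fin.cases with
      | zero => exact hh1
      | succ k => exact (Category.assoc _ _ _).symm.trans ((congrArg (· ≫ π' k) hh2).trans (hh' k))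
    · exact (Category.assoc _ _ _).trans (hg k.succ)

/-- Cochains are determined by their values on universal tuples, which are arbitrary. -/
theorem exists_coord (n : ℕ) : ∃ (P : (Fin (n + 1) → ULift.{u + 1} (Fin D.m)) → C) (τ : ∀ i, D.Tup n (P i)),
    (∀ i, B (P i)) ∧
    (∀ (Q : Cᵒᵖ ⥤ AddCommGrpCat.{u + 1}) (c d : Coch D Q n), IsNat c → IsNat d →
      (∀ i, c _ (τ i) = d _ (τ i)) → ∀ T p, c T p = d T p) ∧
    (∀ (Q : Cᵒᵖ ⥤ AddCommGrpCat.{u + 1}) (e : ∀ i, Q.obj (op (P i))),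
      ∃ c : Coch D Q n, IsNat c ∧ ∀ i, c _ (τ i) = e i) := by
  choose P π hP hb hu using exists_rep D n
  choose h hh huniq using hu
  let τ : ∀ i, D.Tup n (P i) := fun i => ⟨fun k => ⟨i k, π i k⟩, hb i⟩
  have hτ : ∀ (T : C) (p : D.Tup n T),
      (τ _).res (h (fun k => (p.1 k).1) T (fun k => (p.1 k).2) p.2) = p := fun T p =>
    Subtype.ext (funext fun k => congrArg (Sigma.mk (p.1 k).1) (hh _ _ _ p.2 k))
  refine ⟨P, τ, hP, fun Q c d hc hd he T p => ?_, fun Q e => ?_⟩
  · rw [← hτ T p, hc, hd, he]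
  · refine ⟨fun T p => (Q.map (h (fun k => (p.1 k).1) T (fun k => (p.1 k).2) p.2).op).hom (e _),
      fun T T' a p => ?_, fun i => ?_⟩
    · show (Q.map (h (fun k => (p.1 k).1) T' (fun k => a ≫ (p.1 k).2) (p.res a).2).op).hom (e _) = _
      rw [← huniq (fun k => (p.1 k).1) T' (fun k => a ≫ (p.1 k).2) (p.res a).2
        (a ≫ h (fun k => (p.1 k).1) T (fun k => (p.1 k).2) p.2)
        (fun k => (Category.assoc _ _ _).trans (congrArg (a ≫ ·) (hh _ _ _ p.2 k))),
        op_comp, Q.map_comp]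
      rfl
    · show (Q.map (h i (P i) (π i) (hb i)).op).hom (e i) = _
      rw [← huniq i (P i) (π i) (hb i) (𝟙 _) (fun k => Category.id_comp _), op_id, Q.map_id]
      rfl

end Rep

section Glue

variable {D} {P : Cᵒᵖ ⥤ AddCommGrpCat.{u + 1}} (hP : Presieve.IsSheaf J (P ⋙ forget AddCommGrpCat.{u + 1}))

include hP

/-- Functions on the base are determined on the members. -/
theorem base_ext (σ σ' : ∀ T : C, D.β.obj (op T) → P.obj (op T))
    (h : ∀ (T T' : C) (a : T' ⟶ T) (b : D.β.obj (op T)), σ T' (D.β.map a.op b) = (P.map a.op).hom (σ T b))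
    (h' : ∀ (T T' : C) (a : T' ⟶ T) (b : D.β.obj (op T)), σ' T' (D.β.map a.op b) = (P.map a.op).hom (σ' T b))
    (he : ∀ (T : C) (l : D.L T), σ T (Cov.base l) = σ' T (Cov.base l)) (T : C) (b : D.β.obj (op T)) :
    σ T b = σ' T b := by
  obtain ⟨R, hR, hl⟩ := D.cover T b
  refine (hP.isSeparated R hR).ext fun T' a ha => ?_
  obtain ⟨k, l, hkl⟩ := hl a ha
  show (P.map a.op).hom (σ T b) = (P.map a.op).hom (σ' T b)
  rw [← h, ← h', ← hkl]
  exact he T' ⟨⟨k⟩, l⟩

/-- Functions on the members which only depend on the image in the base descend. -/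
theorem exists_glue (s : ∀ T : C, D.L T → P.obj (op T))
    (hs : ∀ (T T' : C) (a : T' ⟶ T) (l : D.L T), s T' (Cov.res a l) = (P.map a.op).hom (s T l))
    (hc : ∀ (T : C) (l l' : D.L T), Cov.base l = Cov.base l' → s T l = s T l') :
    ∃ σ : ∀ T : C, D.β.obj (op T) → P.obj (op T),
      (∀ (T T' : C) (a : T' ⟶ T) (b : D.β.obj (op T)), σ T' (D.β.map a.op b) = (P.map a.op).hom (σ T b)) ∧
      ∀ (T : C) (l : D.L T), σ T (Cov.base l) = s T l := by
  have key : ∀ (T : C) (b : D.β.obj (op T)), ∃ x : P.obj (op T),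
      ∀ (T' : C) (a : T' ⟶ T) (l : D.L T'), Cov.base l = D.β.map a.op b → (P.map a.op).hom x = s T' l := by
    intro T b
    obtain ⟨R, hR, hl⟩ := D.cover T b
    choose k l hkl using hl
    let fam : Presieve.FamilyOfElements (P ⋙ forget AddCommGrpCat.{u + 1}) (R : Presieve T) :=
      fun T' a ha => s T' ⟨⟨k a ha⟩, l a ha⟩
    have hfam : fam.Compatible := by
      intro Y₁ Y₂ Z g₁ g₂ f₁ f₂ h₁ h₂ hw
      show (P.map g₁.op).hom (s Y₁ _) = (P.map g₂.op).hom (s Y₂ _)
      rw [← hs, ← hs]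
      refine hc _ _ _ ?_
      rw [Cov.base_res, Cov.base_res]
      show D.β.map g₁.op (D.β.map (l f₁ h₁).op _) = D.β.map g₂.op (D.β.map (l f₂ h₂).op _)
      rw [hkl, hkl, ← Functor.map_comp_apply, ← Functor.map_comp_apply, ← op_comp, ← op_comp, hw]
    obtain ⟨x, hx, -⟩ := hP R hR fam hfam
    refine ⟨x, fun T' a m hm => (hP.isSeparated _ (J.pullback_stable a hR)).ext fun T'' a' ha' => ?_⟩
    have h2 : (P.map a'.op).hom ((P.map a.op).hom x) = fam (a' ≫ a) ha' := by
      refine Eq.trans ?_ (hx (a' ≫ a) ha')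
      show _ = (P.map (a' ≫ a).op).hom x
      rw [op_comp, P.map_comp]
      rfl
    show (P.map a'.op).hom ((P.map a.op).hom x) = (P.map a'.op).hom (s T' m)
    rw [h2, ← hs]
    refine hc _ _ _ ?_
    rw [Cov.base_res, hm, ← Functor.map_comp_apply, ← op_comp]
    exact hkl _ ha'
  choose σ hσ using key
  refine ⟨σ, fun T T' a b => ?_, fun T l => ?_⟩
  · obtain ⟨R, hR, hl⟩ := D.cover T' (D.β.map a.op b)
    refine (hP.isSeparated R hR).ext fun T'' a' ha' => ?_
    obtain ⟨k, l, hkl⟩ := hl a' ha'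
    show (P.map a'.op).hom _ = (P.map a'.op).hom ((P.map a.op).hom (σ T b))
    rw [hσ T' _ T'' a' ⟨⟨k⟩, l⟩ hkl, ← hσ T b T'' (a' ≫ a) ⟨⟨k⟩, l⟩ (by
      rw [op_comp, Functor.map_comp_apply]; exact hkl), op_comp, P.map_comp]
    rfl
  · have h1 := hσ T (Cov.base l) T (𝟙 T) l (by simp)
    rw [op_id, P.map_id] at h1
    exact h1

end Glue

end Groth.Agent.EtQC.Glob
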