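import Groth.Agent.EtQC.Glob.AffineDim
import Groth.Agent.EtQC.Glob.Bound
import Groth.Agent.AlgSpPts.Dim

/-!
# Cohomology of quasi-coherent modules vanishes above the dimension
-/

set_option autoImplicit false
set_option backward.isDefEq.respectTransparency false
set_option backward.isDefEq.respectTransparency.types false

universe u

set_option maxHeartbeats 800000

open CategoryTheory CategoryTheory.Limits AlgebraicGeometry Opposite Abelian AlgSp TopologicalSpace
open Groth.Agent.AlgSpLib Groth.Agent.AlgSpPts Groth.Agent.AlgSpDec Groth.Agent.AlgSpDec.Neat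

namespace Groth.Agent.EtQC.Glob

variable {S : Scheme.{u}} {X : Sp S}

theorem Square.subsingleton_ext_of_surj (Q : Square X) (F : AbEt X) (h₁ : Subsingleton (Ext (zb Q.β₁) F 1))
    (h₂ : Subsingleton (Ext (zb Q.β₂) F 1))
    (hs : ∀ φ : zb Q.β₀ ⟶ F, ∃ ψ : zb Q.β₂ ⟶ F, zbMap Q.i₂ ≫ ψ = φ) :
    Subsingleton (Ext (zb Q.β) F 1) := by
  have hm : ∀ y : Ext Q.complex.X₂ F 1, y = 0 := fun y => by
    show (y : Ext (zb Q.β₁ ⊞ zb Q.β₂) F 1) = 0
    have e : (Ext.mk₀ (𝟙 (zb Q.β₁ ⊞ zb Q.β₂))).comp y (zero_add _) = y := Ext.mk₀_id_comp y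
    rw [← e, ← biprod.total, Ext.mk₀_add, Ext.add_comp, ← Ext.mk₀_comp_mk₀, ← Ext.mk₀_comp_mk₀,
      Ext.comp_assoc_of_second_deg_zero, Ext.comp_assoc_of_second_deg_zero,
      Subsingleton.elim ((Ext.mk₀ biprod.inl).comp y (zero_add _)) 0,
      Subsingleton.elim ((Ext.mk₀ biprod.inr).comp y (zero_add _)) 0, Ext.comp_zero, Ext.comp_zero, add_zero]
  refine subsingleton_of_forall_eq 0 fun x => ?_
  obtain ⟨z, hz⟩ := Ext.contravariant_sequence_exact₃ Q.shortExact F x (hm _) (rfl : 1 + 0 = 1)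
  obtain ⟨φ, rfl⟩ := (Ext.mk₀_bijective _ _).2 z
  obtain ⟨ψ, hψ⟩ := hs φ
  have e : Q.complex.f ≫ biprod.desc 0 (-ψ) = φ := by
    simp [Square.complex, hψ]
  rw [← hz, ← e]
  refine (congrArg (fun t => Q.shortExact.extClass.comp t (rfl : 1 + 0 = 1)) (Ext.mk₀_comp_mk₀ _ _).symm).trans ?_
  rw [← Ext.comp_assoc_of_second_deg_zero, Q.shortExact.extClass_comp, Ext.zero_comp]

variable (V : EtOver X) [IsAffine V.obj.left.left]

theorem exists_nbhd_disjoint (h0 : Ring.KrullDimLE 0 (Fn V)) (a : Fn V) (x : ↥V.obj.left.left)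
    (hx : x ∉ V.obj.left.left.basicOpen a) :
    ∃ s : Fn V, x ∈ V.obj.left.left.basicOpen s ∧ ∀ y, y ∈ V.obj.left.left.basicOpen s →
      y ∉ V.obj.left.left.basicOpen a := by
  let p : Ideal (Fn V) := (IsLocalRing.maximalIdeal (V.obj.left.left.presheaf.stalk x)).comap
    (V.obj.left.left.presheaf.Γgerm x).hom
  haveI : p.IsPrime := Ideal.IsPrime.comap _
  have hp : ∀ b : Fn V, b ∈ p ↔ x ∉ V.obj.left.left.basicOpen b := fun b => by
    rw [V.obj.left.left.mem_basicOpen_top]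
    exact IsLocalRing.mem_maximalIdeal _
  obtain ⟨s, hs, n, hsn⟩ : ∃ s ∈ p.primeCompl, ∃ n : ℕ, s * a ^ n = 0 := by
    by_contra hne
    push Not at hne
    have hd : Disjoint ((⊥ : Ideal (Fn V)) : Set (Fn V)) (p.primeCompl ⊔ Submonoid.powers a : Submonoid (Fn V)) := by
      refine Set.disjoint_left.2 fun y hy hy' => ?_
      obtain ⟨s, hs, _, ⟨n, rfl⟩, rfl⟩ := Submonoid.mem_sup.1 hy'
      exact hne s hs n hy
    obtain ⟨q, hq, -, hqd⟩ := Ideal.exists_le_prime_disjoint ⊥ _ hd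
    have hle : q ≤ p := fun y hy => by
      by_contra hyp
      exact Set.disjoint_left.1 hqd hy ((le_sup_left : p.primeCompl ≤ _) hyp)
    haveI := h0
    have e : q = p := (Ideal.IsPrime.isMaximal' hq).eq_of_le (Ideal.IsPrime.ne_top ‹_›) hle
    exact Set.disjoint_left.1 hqd (e ▸ (hp a).2 hx : a ∈ q)
      ((le_sup_right : Submonoid.powers a ≤ _) (Submonoid.mem_powers a))
  refine ⟨s, by_contra fun h => hs ((hp s).2 h), fun y hys hya => ?_⟩
  rw [V.obj.left.left.mem_basicOpen_top] at hys hya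
  have h := congrArg (V.obj.left.left.presheaf.Γgerm y).hom hsn
  rw [map_mul, map_pow, map_zero] at h
  exact (hys.mul (hya.pow n)).ne_zero h

theorem exists_compl (h0 : Ring.KrullDimLE 0 (Fn V)) (W : V.obj.left.left.Opens)
    (hW : IsCompact (W : Set ↥V.obj.left.left)) :
    ∃ A : V.obj.left.left.Opens, W ⊔ A = ⊤ ∧ W ⊓ A = ⊥ := by
  have ho : IsOpen ((W : Set ↥V.obj.left.left)ᶜ) := by
    refine isOpen_iff_forall_mem_open.2 fun x hx => ?_
    choose a ha hya using fun y : W =>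
      (isAffineOpen_top V.obj.left.left).exists_basicOpen_le (V := W) y trivial
    obtain ⟨t, ht⟩ := hW.elim_finite_subcover (fun y : W => (V.obj.left.left.basicOpen (a y) : Set ↥V.obj.left.left))
      (fun y => (V.obj.left.left.basicOpen (a y)).isOpen) fun y hy => Set.mem_iUnion.2 ⟨⟨y, hy⟩, hya ⟨y, hy⟩⟩
    choose s hxs hs using fun y : W => exists_nbhd_disjoint V h0 (a y) x fun h => hx (ha y h)
    refine ⟨⋂ y ∈ t, (V.obj.left.left.basicOpen (s y) : Set ↥V.obj.left.left), fun z hz hzW => ?_,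
      isOpen_biInter_finset fun y _ => (V.obj.left.left.basicOpen (s y)).isOpen,
      Set.mem_iInter₂.2 fun y _ => hxs y⟩
    obtain ⟨y, hy, hzy⟩ := Set.mem_iUnion₂.1 (ht hzW)
    exact hs y z (Set.mem_iInter₂.1 hz y hy) hzy
  refine ⟨⟨_, ho⟩, ?_, ?_⟩
  · exact Opens.ext (Set.union_compl_self _)
  · exact Opens.ext (Set.inter_compl_self _)

theorem exists_ext_sub (h0 : Ring.KrullDimLE 0 (Fn V)) (W : V.obj.left.left.Opens)
    (hW : IsCompact (W : Set ↥V.obj.left.left)) {G : AbEt X} (φ : zb (sub V W) ⟶ G) :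
    ∃ ψ : zb (sub V (⊤ : V.obj.left.left.Opens)) ⟶ G,
      ∀ h : (W : Set ↥V.obj.left.left) ⊆ (⊤ : V.obj.left.left.Opens), zbMap (subMap V h) ≫ ψ = φ := by
  obtain ⟨A, hA₁, hA₂⟩ := exists_compl V h0 W hW
  have h00 : zbMap (squareOpens V W A).i₁ ≫ φ = zbMap (squareOpens V W A).i₂ ≫ (0 : zb (sub V A) ⟶ G) := by
    refine val_ext fun E b => ?_
    have hR : Sieve.ofArrows (fun i : PEmpty.{1} => (i.elim : EtOver X)) (fun i => i.elim) ∈ etTop X E :=
      AlgSpDec.ofArrows_mem_etTop _ _ fun x => by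
        have hx : (SubEl.hom b).hom.left.left x ∈ (W ⊓ A : V.obj.left.left.Opens) := SubEl.mem b x
        exact ((SetLike.ext_iff.1 hA₂ _).1 hx).elim
    refine ((isSheaf_type G).isSeparated _ hR).ext fun E' a ha => ?_
    obtain ⟨i, -⟩ := (Sieve.mem_ofArrows_iff _ _ _).1 ha
    exact i.elim
  obtain ⟨ψ, h1, -⟩ := (squareOpens V W A).exists_desc φ (0 : zb (sub V A) ⟶ G) h00
  suffices key : ∀ (T : V.obj.left.left.Opens), T = W ⊔ A →
      ∃ ψ : zb (sub V T) ⟶ G, ∀ h : (W : Set ↥V.obj.left.left) ⊆ T, zbMap (subMap V h) ≫ ψ = φ from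
    key ⊤ hA₁.symm
  rintro _ rfl
  exact ⟨ψ, fun h => h1⟩

omit [IsAffine V.obj.left.left] in
/-- Cohomology vanishes above the dimension. -/
theorem subsingleton_HModEt_of_dim {S : Scheme.{u}} [QuasiSeparatedSpace ↥S] (X : Space S)
    (hqc : IsQuasiCompactSp X.obj) (hqs : IsQuasiSeparatedSp X.obj) (d : ℕ)
    (hdim : AlgSp.dim X.obj ≤ (d : WithBot ℕ∞)) {M : ModEt X.obj} (hM : BCAll M) (q : ℕ) (hq : d < q) :
    Subsingleton (HModEt X.obj M q) := by
  obtain ⟨q, rfl⟩ : ∃ j, q = j + 1 := ⟨q - 1, by omega⟩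
  let G := (toAbEt X.obj).obj M
  have hG : IsAffAcyclic G := isAffAcyclic_of_bcAll hM
  let Q : Set (Points X.obj) → Prop := fun O => IsOpen O → IsCompact O → Subsingleton (Ext (zb (inO O)) G (q + 1))
  have hQ : Q Set.univ := by
    refine induction_open X hqc hqs Q ∅ isOpen_empty isCompact_empty (fun _ _ =>
      subsingleton_of_forall_eq 0 fun e => ?_) ?_
    · rw [← Ext.mk₀_id_comp e, (IsZero.iff_id_eq_zero _).1 isZero_zb_empty, Ext.mk₀_zero, Ext.zero_comp]
    intro O W φ hW hO hOc _ hφ hn hQO _ _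
    let E : EtOver X.obj := EtOver.mk φ hφ
    haveI : IsAffine E.obj.left.left := hW
    haveI : CompactSpace ↥W.left := inferInstanceAs (CompactSpace ↥E.obj.left.left)
    have hpre := AlgSpDec.isCompact_preimage_ofPt X.property hqs E.obj.hom hO hOc
    have hd : ringKrullDim (Fn E) ≤ (d : WithBot ℕ∞) := by
      refine le_trans (le_of_eq ?_) ((le_iSup₂_of_le (f := fun (U : Over S) (a : (yon S).obj U ⟶ X.obj) =>
        ⨆ (_ : RepWith @Etale a), topologicalKrullDim ↥U.left) W φ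
          (le_iSup (fun _ : RepWith @Etale φ => topologicalKrullDim ↥W.left) hφ)).trans hdim)
      rw [← PrimeSpectrum.topologicalKrullDim_eq_ringKrullDim]
      exact (IsHomeomorph.topologicalKrullDim_eq _ E.obj.left.left.isoSpec.hom.homeomorph.isHomeomorph).symm
    have h2 := subsingleton_ext_affine E ⊤ (isAffineOpen_top _) q G hG
    rcases q with _ | q
    · obtain rfl : d = 0 := by omega
      refine (squareAdd hO E hn).subsingleton_ext_of_surj G (hQO hO hOc) h2 fun ψ => ?_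
      obtain ⟨χ, hχ⟩ := exists_ext_sub E (Ring.krullDimLE_iff.2 hd) (preO E hO) hpre ψ
      exact ⟨χ, hχ fun x _ => trivial⟩
    · refine (squareAdd hO E hn).subsingleton_ext G (q + 1) (hQO hO hOc) h2 ?_
      exact subsingleton_ext_qcOpen E hM (d := d + 1)
        (lt_of_le_of_lt hd (by exact_mod_cast Nat.lt_succ_self d)) (preO E hO) hpre q (by omega)
  haveI : CompactSpace (Points X.obj) := compactSpace_points hqc
  haveI := hQ isOpen_univ isCompact_univ
  obtain ⟨e⟩ := exists_iso_univ (X := X.obj)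
  refine subsingleton_of_forall_eq 0 fun x => ?_
  have h : (x : Ext (zc X.obj) G (q + 1)) = (Ext.mk₀ e.inv).comp
      ((Ext.mk₀ e.hom).comp x (zero_add _)) (zero_add _) := by
    rw [Ext.mk₀_comp_mk₀_assoc, e.inv_hom_id, Ext.mk₀_id_comp]
  rw [h, Subsingleton.elim ((Ext.mk₀ e.hom).comp x (zero_add _)) 0, Ext.comp_zero]

end Groth.Agent.EtQC.Glob
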