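import Groth.Agent.EtQC.Glob.AffineDim
import Groth.Agent.AlgSpDec.EtStalkStrict
import Groth.Agent.AlgSpDec.EtStalkProps
import Groth.Agent.AlgSpLib.CartierRegular

/-!
# Equalizers of maps to an affine object of a separated space
-/

set_option autoImplicit false
set_option backward.isDefEq.respectTransparency false
set_option backward.isDefEq.respectTransparency.types false

universe u

set_option maxHeartbeats 800000

open CategoryTheory CategoryTheory.Limits AlgebraicGeometry Opposite AlgSp TopologicalSpace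

namespace Groth.Agent.EtQC.Glob

variable {S : Scheme.{u}} {X : Sp S} {T T' T'' V : EtOver X}

/-- The locus where two maps agree. -/
def eqSet (a b : T ⟶ V) : Set ↥T.obj.left.left :=
  {x | ∃ (E' : EtOver X) (g : E' ⟶ T), g ≫ a = g ≫ b ∧ x ∈ Set.range g.hom.left.left}

/-- Maps agreeing nowhere. -/
def Dist (a b : T ⟶ V) : Prop := ∀ x, x ∉ eqSet a b

theorem mem_eqSet_comp (g : T' ⟶ T) (a b : T ⟶ V) (x : ↥T'.obj.left.left) :
    g.hom.left.left x ∈ eqSet a b ↔ x ∈ eqSet (g ≫ a) (g ≫ b) := by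
  constructor
  · rintro ⟨E', h, hh, z, hz⟩
    obtain ⟨w, hw, -⟩ := Scheme.exists_preimage_of_isPullback (EtQC.isPullback_left g h) x z hz.symm
    refine ⟨EtOver.pullbackObj g h, EtOver.pullbackFst g h, ?_, w, hw⟩
    rw [← Category.assoc, ← Category.assoc, EtOver.pullback_condition, Category.assoc, Category.assoc, hh]
  · rintro ⟨E', h, hh, z, hz⟩
    refine ⟨E', h ≫ g, by simpa using hh, z, ?_⟩
    rw [← hz]
    rfl

theorem Dist.comp {a b : T ⟶ V} (h : Dist a b) (g : T' ⟶ T) : Dist (g ≫ a) (g ≫ b) :=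
  fun x hx => h _ ((mem_eqSet_comp g a b x).2 hx)

theorem mem_eqSet_self (a : T ⟶ V) (x : ↥T.obj.left.left) : x ∈ eqSet a a := ⟨T, 𝟙 T, rfl, x, rfl⟩

theorem Dist.ne {a b : T ⟶ V} [hne : Nonempty ↥T.obj.left.left] (h : Dist a b) : a ≠ b :=
  fun e => hne.elim fun x => h x (e ▸ mem_eqSet_self a x)

theorem exists_pair (a b : T ⟶ V) : ∃ (pair : T ⟶ EtOver.prodObj V V) (Δ : V ⟶ EtOver.prodObj V V),
    pair ≫ EtOver.prodFst V V = a ∧ pair ≫ EtOver.prodSnd V V = b ∧
      Δ ≫ EtOver.prodFst V V = 𝟙 V ∧ Δ ≫ EtOver.prodSnd V V = 𝟙 V := by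
  obtain ⟨pair, hp1, hp2⟩ := BinaryFan.IsLimit.lift' (EtOver.prodIsLimit V V) a b
  obtain ⟨Δ, hΔ1, hΔ2⟩ := BinaryFan.IsLimit.lift' (EtOver.prodIsLimit V V) (𝟙 V) (𝟙 V)
  exact ⟨pair, Δ, hp1, hp2, hΔ1, hΔ2⟩

theorem isOpen_eqSet (a b : T ⟶ V) : IsOpen (eqSet a b) := by
  refine isOpen_iff_forall_mem_open.2 fun x ⟨E', g, hg, hx⟩ => ⟨_, fun y hy => ⟨E', g, hg, hy⟩, ?_, hx⟩
  haveI := EtOver.etale_left g
  exact g.hom.left.left.isOpenMap.isOpen_range

theorem pullbackFst_eq {a b : T ⟶ V} {pair : T ⟶ EtOver.prodObj V V} {Δ : V ⟶ EtOver.prodObj V V}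
    (h1 : pair ≫ EtOver.prodFst V V = a) (h2 : pair ≫ EtOver.prodSnd V V = b)
    (h3 : Δ ≫ EtOver.prodFst V V = 𝟙 V) (h4 : Δ ≫ EtOver.prodSnd V V = 𝟙 V) :
    EtOver.pullbackFst pair Δ ≫ a = EtOver.pullbackFst pair Δ ≫ b := by
  rw [← h1, ← h2, ← Category.assoc, ← Category.assoc, EtOver.pullback_condition pair Δ, Category.assoc,
    Category.assoc, h3, h4]

/-- A point on which two maps agree lies in the locus of agreement. -/
theorem mem_eqSet_of_comp_eq (a b : T ⟶ V) {Z : Over S} (c : Z ⟶ T.obj.left)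
    (h : c ≫ a.hom.left = c ≫ b.hom.left) (z : ↥Z.left) : c.left z ∈ eqSet a b := by
  obtain ⟨pair, Δ, h1, h2, h3, h4⟩ := exists_pair a b
  have hcomm : c ≫ pair.hom.left = (c ≫ a.hom.left) ≫ Δ.hom.left := by
    refine V.property.1.hom_ext' ?_ ?_
    · rw [Category.assoc, Category.assoc]
      have e1 := congrArg (fun m => c ≫ m.hom.left) h2
      have e2 := congrArg (fun m => (c ≫ a.hom.left) ≫ m.hom.left) h4
      refine e1.trans (Eq.trans ?_ (e2.symm.trans (Category.assoc _ _ _)))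
      exact h.symm.trans (Category.comp_id _).symm
    · rw [Category.assoc, Category.assoc]
      have e1 := congrArg (fun m => c ≫ m.hom.left) h1
      have e2 := congrArg (fun m => (c ≫ a.hom.left) ≫ m.hom.left) h3
      exact e1.trans ((Category.comp_id _).symm.trans (e2.symm.trans (Category.assoc _ _ _)))
  refine ⟨_, EtOver.pullbackFst pair Δ, pullbackFst_eq h1 h2 h3 h4,
    (EtQC.isPullback_left pair Δ).lift c.left (c ≫ a.hom.left).left (congrArg (fun m => m.left) hcomm) z, ?_⟩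
  rw [← Scheme.Hom.comp_apply, (EtQC.isPullback_left pair Δ).lift_fst]

theorem isAffine_prodObj [S.IsSeparated] (hsep : IsSeparatedSp X) (A B : EtOver X) [IsAffine A.obj.left.left]
    [IsAffine B.obj.left.left] : IsAffine (EtOver.prodObj A B).obj.left.left :=
  AlgSpLib.CartierRegular.isAffine_of_isSeparatedSp hsep (B.property.1.isPullback' A.obj.hom).flip

variable [S.IsSeparated] (hsep : IsSeparatedSp X) [IsAffine V.obj.left.left]

include hsep

theorem isClosed_eqSet (a b : T ⟶ V) : IsClosed (eqSet a b) := by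
  obtain ⟨pair, Δ, h1, h2, h3, h4⟩ := exists_pair a b
  haveI := isAffine_prodObj hsep V V
  haveI : IsAffineHom (EtOver.prodFst V V).hom.left.left := isAffineHom_of_isAffine _
  haveI : IsClosedImmersion (Δ.hom.left.left ≫ (EtOver.prodFst V V).hom.left.left) := by
    have e : Δ.hom.left.left ≫ (EtOver.prodFst V V).hom.left.left = 𝟙 V.obj.left.left :=
      congrArg (fun m => m.hom.left.left) h3
    rw [e]
    infer_instance
  haveI : IsClosedImmersion Δ.hom.left.left := IsClosedImmersion.of_comp _ (EtOver.prodFst V V).hom.left.left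
  haveI : IsClosedImmersion (EtOver.pullbackFst pair Δ).hom.left.left :=
    MorphismProperty.of_isPullback (P := @IsClosedImmersion) (EtQC.isPullback_left pair Δ).flip inferInstance
  have e : eqSet a b = Set.range (EtOver.pullbackFst pair Δ).hom.left.left := by
    refine Set.Subset.antisymm (fun x hx => ?_) fun x hx => ⟨_, _, pullbackFst_eq h1 h2 h3 h4, hx⟩
    obtain ⟨E', g, hg, z, rfl⟩ := hx
    have hw : g ≫ pair = (g ≫ a) ≫ Δ := BinaryFan.IsLimit.hom_ext (EtOver.prodIsLimit V V)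
      (show (g ≫ pair) ≫ EtOver.prodFst V V = ((g ≫ a) ≫ Δ) ≫ EtOver.prodFst V V by
        simp only [Category.assoc, h1, h3, Category.comp_id])
      (show (g ≫ pair) ≫ EtOver.prodSnd V V = ((g ≫ a) ≫ Δ) ≫ EtOver.prodSnd V V by
        simp only [Category.assoc, h2, h4, Category.comp_id]; exact hg.symm)
    refine ⟨((EtOver.isPullback pair Δ).lift g (g ≫ a) hw).hom.left.left z, ?_⟩
    rw [← Scheme.Hom.comp_apply]
    exact congrArg (fun m => m z) (congrArg (fun m : E' ⟶ T => m.hom.left.left) ((EtOver.isPullback pair Δ).lift_fst g (g ≫ a) hw))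
  rw [e]
  exact (EtOver.pullbackFst pair Δ).hom.left.left.isClosedEmbedding.isClosed_range

/-- Every object is covered by pieces on which two maps agree or agree nowhere. -/
theorem exists_sieve_eq_or_dist (a b : T ⟶ V) :
    ∃ R ∈ etTop X T, ∀ ⦃T' : EtOver X⦄ (g : T' ⟶ T), R g → g ≫ a = g ≫ b ∨ Dist (g ≫ a) (g ≫ b) := by
  let R : Sieve T :=
    { arrows := fun T' g => g ≫ a = g ≫ b ∨ Dist (g ≫ a) (g ≫ b)
      downward_closed := fun {T' T''} g hg h => hg.imp (fun e => by rw [Category.assoc, Category.assoc, e])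
        (fun e => by rw [Category.assoc, Category.assoc]; exact e.comp h) }
  refine ⟨R, ?_, fun T' g hg => hg⟩
  have key : ∀ x, ∃ (E' : EtOver X) (g : E' ⟶ T), R g ∧ x ∈ Set.range g.hom.left.left := fun x => by
    by_cases hx : x ∈ eqSet a b
    · obtain ⟨E', g, hg, hxg⟩ := hx
      exact ⟨E', g, Or.inl hg, hxg⟩
    · let O : T.obj.left.left.Opens := ⟨(eqSet a b)ᶜ, (isClosed_eqSet hsep a b).isOpen_compl⟩
      refine ⟨_, AlgSpDec.etOpenι T O, Or.inr fun y hy => etOpen_lift O y ((mem_eqSet_comp _ a b y).2 hy), ?_⟩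
      rw [AlgSpDec.range_etOpenι]
      exact hx
  choose E g hg hx using key
  refine (etTop X).superset_covering ?_ (AlgSpDec.ofArrows_mem_etTop E g fun x => ⟨x, hx x⟩)
  intro T' h hh
  obtain ⟨x, l, rfl⟩ := (Sieve.mem_ofArrows_iff _ _ _).1 hh
  exact R.downward_closed (hg x) l

/-- Every object is covered by pieces on which finitely many maps pairwise agree or agree nowhere. -/
theorem exists_sieve_pure {ι : Type} [Finite ι] (p : ι → (T ⟶ V)) : ∃ R ∈ etTop X T, ∀ ⦃T' : EtOver X⦄ (g : T' ⟶ T),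
    R g → ∀ i j, g ≫ p i = g ≫ p j ∨ Dist (g ≫ p i) (g ≫ p j) := by
  classical
  haveI := Fintype.ofFinite ι
  choose R hR hR' using fun k : ι × ι => exists_sieve_eq_or_dist hsep (p k.1) (p k.2)
  refine ⟨Finset.univ.inf R, Finset.inf_induction (p := fun s => s ∈ etTop X T) ((etTop X).top_mem T)
    (fun _ h _ h' => (etTop X).intersection_covering h h') (fun k _ => hR k), fun T' g hg i j => hR' (i, j) g ?_⟩
  exact (Finset.inf_le (f := R) (Finset.mem_univ (i, j))) g hg

end Groth.Agent.EtQC.Glob
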