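import Groth.Agent.EtQC.Glob.Cov
import Mathlib.Algebra.Homology.ShortComplex.Ab

/-!
# Exactness of Cech cochains: injectives, quotients, filtered colimits
-/

set_option autoImplicit false
set_option backward.isDefEq.respectTransparency false
set_option backward.isDefEq.respectTransparency.types false

universe u

open CategoryTheory CategoryTheory.Limits Opposite

namespace Groth.Agent.EtQC.Glob

variable {C : Type (u + 1)} [Category.{u} C] {J : GrothendieckTopology C} {B : C → Prop} {D : Cov J B}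

variable (D) in
/-- No Cech cohomology in degree `n + 1`. -/
def ExactAt (P : Cᵒᵖ ⥤ AddCommGrpCat.{u + 1}) (n : ℕ) : Prop :=
  ∀ c : Coch D P (n + 1), IsNat c → (∀ T p, δ c T p = 0) →
    ∃ b : Coch D P n, IsNat b ∧ ∀ T p, δ b T p = c T p

section Injective

variable (D)

/-- Free presheaf on tuples. -/
noncomputable def free (n : ℕ) : Cᵒᵖ ⥤ AddCommGrpCat.{u + 1} where
  obj T := AddCommGrpCat.of (FreeAbelianGroup (D.Tup n T.unop))
  map f := AddCommGrpCat.ofHom (FreeAbelianGroup.lift fun p => FreeAbelianGroup.of (p.res f.unop))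
  map_id T := AddCommGrpCat.hom_ext <| FreeAbelianGroup.lift_ext _ _ fun p =>
    (FreeAbelianGroup.lift_apply_of _ _).trans
      (congrArg FreeAbelianGroup.of (Subtype.ext (funext fun k => Cov.res_id _)))
  map_comp f g := AddCommGrpCat.hom_ext <| FreeAbelianGroup.lift_ext _ _ fun p => by
    simp only [AddCommGrpCat.hom_comp, AddCommGrpCat.hom_ofHom, AddMonoidHom.coe_comp,
      Function.comp_apply, FreeAbelianGroup.lift_apply_of]
    exact congrArg FreeAbelianGroup.of (Subtype.ext (funext fun k => congrArg (Sigma.mk _) (Category.assoc _ _ _)))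

/-- A cochain gives a map out of the free presheaf. -/
noncomputable def desc {n : ℕ} {P : Cᵒᵖ ⥤ AddCommGrpCat.{u + 1}} (c : Coch D P n) (hc : IsNat c) :
    free D n ⟶ P where
  app T := AddCommGrpCat.ofHom (FreeAbelianGroup.lift (c T.unop))
  naturality T T' f := AddCommGrpCat.hom_ext <| FreeAbelianGroup.lift_ext _ _ fun p => by
    simp only [free, AddCommGrpCat.hom_comp, AddCommGrpCat.hom_ofHom, AddMonoidHom.coe_comp,
      Function.comp_apply, FreeAbelianGroup.lift_apply_of]
    exact hc _ _ f.unop p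

/-- Free generators. -/
noncomputable def gen (n : ℕ) : Coch D (free D n) n := fun _ p => FreeAbelianGroup.of p

theorem isNat_gen (n : ℕ) : IsNat (gen D n) := fun _ _ _ _ => (FreeAbelianGroup.lift_apply_of _ _).symm

/-- The differential. -/
noncomputable def dd (n : ℕ) : free D (n + 1) ⟶ free D n := desc D (δ (gen D n)) (isNat_gen D n).δ

theorem dd_of {n : ℕ} {T : C} (p : D.Tup (n + 1) T) :
    ((dd D n).app (op T)).hom (FreeAbelianGroup.of p) = δ (gen D n) T p := FreeAbelianGroup.lift_apply_of _ _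

/-- A chosen lift of an element of the base. -/
noncomputable def vertex {n : ℕ} {T : C} (p : D.Tup n T) : D.L T :=
  (⟨p.1 0, rfl⟩ : ∃ l : D.L T, Cov.base l = Cov.base (p.1 0)).choose

theorem vertex_congr {n m : ℕ} {T : C} (p : D.Tup n T) (q : D.Tup m T) (h : Cov.base (p.1 0) = Cov.base (q.1 0)) :
    vertex D p = vertex D q := by
  have key : ∀ (b b' : D.β.obj (op T)) (hb : ∃ l : D.L T, Cov.base l = b) (hb' : ∃ l : D.L T, Cov.base l = b'),
      b = b' → hb.choose = hb'.choose := by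
    rintro b _ hb hb' rfl
    rfl
  exact key _ _ _ _ h

/-- Coning off. -/
noncomputable def cone {n : ℕ} {T : C} (p : D.Tup n T) : D.Tup (n + 1) T :=
  ⟨Fin.cons (vertex D p) p.1, by
    have hv : Cov.base (vertex D p) = Cov.base (p.1 0) :=
      (⟨p.1 0, rfl⟩ : ∃ l : D.L T, Cov.base l = Cov.base (p.1 0)).choose_spec
    have hk : ∀ k, Cov.base ((Fin.cons (vertex D p) p.1 : Fin (n + 2) → D.L T) k) = Cov.base (p.1 0) := fun k => by
      induction k using Fin.cases with
      | zero => exact hv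
      | succ k => exact p.2 _ _
    exact fun i j => (hk i).trans (hk j).symm⟩

/-- The homotopy. -/
noncomputable def htpy (n : ℕ) (T : C) :
    FreeAbelianGroup (D.Tup n T) →+ FreeAbelianGroup (D.Tup (n + 1) T) :=
  FreeAbelianGroup.lift fun p => FreeAbelianGroup.of (cone D p)

theorem dd_htpy {n : ℕ} {T : C} (x : FreeAbelianGroup (D.Tup (n + 1) T)) :
    ((dd D (n + 1)).app (op T)).hom (htpy D (n + 1) T x) =
      x - htpy D n T (((dd D n).app (op T)).hom x) := by
  revert x
  suffices h : ((dd D (n + 1)).app (op T)).hom.comp (htpy D (n + 1) T) =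
      AddMonoidHom.id _ - (htpy D n T).comp ((dd D n).app (op T)).hom from
    fun x => DFunLike.congr_fun h x
  refine FreeAbelianGroup.lift_ext _ _ fun p => ?_
  show ((dd D (n + 1)).app (op T)).hom (htpy D (n + 1) T (FreeAbelianGroup.of p)) =
    FreeAbelianGroup.of p - htpy D n T (((dd D n).app (op T)).hom (FreeAbelianGroup.of p))
  rw [htpy, FreeAbelianGroup.lift_apply_of, dd_of, dd_of, δ, Fin.sum_univ_succ, δ]
  refine Eq.trans ?_ ((congrArg (fun y => FreeAbelianGroup.of p - y)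
    (map_sum (htpy D n T) (fun j : Fin (n + 2) => (-1 : ℤ) ^ (j : ℕ) • gen D n T (p.face j)) Finset.univ)).symm)
  have f0 : (cone D p).face 0 = p := Subtype.ext (funext fun k => by
    show (Fin.cons (vertex D p) p.1 : Fin (n + 3) → D.L T) ((0 : Fin (n + 3)).succAbove k) = p.1 k
    rw [Fin.zero_succAbove, Fin.cons_succ])
  rw [f0, sub_eq_add_neg, ← Finset.sum_neg_distrib]
  refine congrArg₂ (· + ·) (by simp [gen]) (Finset.sum_congr rfl fun j _ => ?_)
  have fs : (cone D p).face j.succ = cone D (p.face j) := Subtype.ext (funext fun k => by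
    show (Fin.cons (vertex D p) p.1 : Fin (n + 3) → D.L T) (j.succ.succAbove k) =
      (Fin.cons (vertex D (p.face j)) (p.face j).1 : Fin (n + 2) → D.L T) k
    induction k using Fin.cases with
    | zero =>
      rw [Fin.succ_succAbove_zero, Fin.cons_zero, Fin.cons_zero]
      exact vertex_congr D p (p.face j) (p.2 _ _)
    | succ i => rw [Fin.succ_succAbove_succ, Fin.cons_succ, Fin.cons_succ]; rfl)
  rw [fs, map_zsmul, htpy]
  simp only [gen, FreeAbelianGroup.lift_apply_of]
  rw [Fin.val_succ, pow_succ, mul_neg_one, neg_zsmul]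
  exact congrArg (fun y => -((-1 : ℤ) ^ (j : ℕ) • y)) (FreeAbelianGroup.lift_apply_of _ _).symm

/-- Injective presheaves are exact. -/
theorem exact_of_injective (P : Cᵒᵖ ⥤ AddCommGrpCat.{u + 1}) [Injective P] : D.Exact P := by
  intro n c hc hδ
  let φ := desc D c hc
  have hφd : ∀ (T : C) (z : FreeAbelianGroup (D.Tup (n + 2) T)),
      (φ.app (op T)).hom (((dd D (n + 1)).app (op T)).hom z) = 0 := by
    intro T
    suffices h : (φ.app (op T)).hom.comp ((dd D (n + 1)).app (op T)).hom = 0 from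
      fun z => DFunLike.congr_fun h z
    refine FreeAbelianGroup.lift_ext _ _ fun p => ?_
    show (φ.app (op T)).hom (((dd D (n + 1)).app (op T)).hom (FreeAbelianGroup.of p)) = 0
    rw [dd_of, ← δ_map]
    exact Eq.trans (Finset.sum_congr rfl fun j _ => congrArg _ (FreeAbelianGroup.lift_apply_of _ _)) (hδ T p)
  have hk : kernel.ι (dd D n) ≫ φ = 0 := by
    refine NatTrans.ext (funext fun T => AddCommGrpCat.hom_ext (AddMonoidHom.ext fun z => ?_))
    show (φ.app T).hom (((kernel.ι (dd D n)).app T).hom z) = 0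
    have key : ∀ (T : C) (w : FreeAbelianGroup (D.Tup (n + 1) T)),
        ((dd D n).app (op T)).hom w = 0 → (φ.app (op T)).hom w = 0 := by
      intro T w h0
      have h1 : ((dd D (n + 1)).app (op T)).hom (htpy D (n + 1) T w) = w :=
        (dd_htpy D w).trans ((congrArg (fun y : FreeAbelianGroup (D.Tup n T) => w - htpy D n T y) h0).trans
          ((congrArg (fun y => w - y) (map_zero _)).trans (sub_zero w)))
      exact (congrArg _ h1.symm).trans (hφd T _)
    exact key T.unop _
      (congrArg (fun (t : kernel (dd D n) ⟶ free D n) => (t.app T).hom z) (kernel.condition (dd D n)))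
  let S : ShortComplex (Cᵒᵖ ⥤ AddCommGrpCat.{u + 1}) :=
    ShortComplex.mk (kernel.ι (dd D n)) (dd D n) (kernel.condition _)
  have hS : S.Exact := ShortComplex.exact_of_f_is_kernel S (kernelIsKernel (dd D n))
  let ψ : free D n ⟶ P := hS.descToInjective φ hk
  have hψ : dd D n ≫ ψ = φ := hS.comp_descToInjective φ hk
  refine ⟨fun T p => (ψ.app (op T)).hom (gen D n T p), (isNat_gen D n).map ψ, fun T p => ?_⟩
  rw [δ_map, ← dd_of]
  exact (congrArg (fun t : free D (n + 1) ⟶ P => (t.app (op T)).hom (FreeAbelianGroup.of p)) hψ).trans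
    (FreeAbelianGroup.lift_apply_of _ _)

end Injective

section Quotient

variable {P₁ P₂ P₃ : Cᵒᵖ ⥤ AddCommGrpCat.{u + 1}} (f : P₁ ⟶ P₂) (g : P₂ ⟶ P₃)
  (hinj : ∀ T, Function.Injective (f.app T).hom)
  (hex : ∀ T, ∀ y, (g.app T).hom y = 0 → ∃ x, (f.app T).hom x = y)
  (hfg : ∀ T x, (g.app T).hom ((f.app T).hom x) = 0)

include hinj hex hfg

omit hfg in
theorem exists_coch_left {n : ℕ} (c : Coch D P₂ n) (hc : IsNat c) (h : ∀ T p, (g.app (op T)).hom (c T p) = 0) :
    ∃ c₁ : Coch D P₁ n, IsNat c₁ ∧ ∀ T p, (f.app (op T)).hom (c₁ T p) = c T p := by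
  choose c₁ hc₁ using fun T p => hex _ _ (h T p)
  refine ⟨c₁, fun T T' a p => hinj _ ?_, hc₁⟩
  rw [hc₁, hc, ← hc₁ T p]
  exact (ConcreteCategory.congr_hom (f.naturality a.op) _).symm

/-- Exactness passes to quotients with surjective sections on good objects. -/
theorem exactAt_quot {n : ℕ} (h1 : ExactAt D P₁ (n + 1)) (h2 : ExactAt D P₂ n)
    (hg : ∀ T, B T → Function.Surjective (g.app (op T)).hom) : ExactAt D P₃ n := by
  intro c hc hδ
  obtain ⟨P, τ, hP, hext, hex'⟩ := exists_coord D (n + 1)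
  choose e he using fun i => hg (P i) (hP i) (c _ (τ i))
  obtain ⟨c₂, hc₂, hc₂τ⟩ := hex' P₂ e
  have hgc : ∀ T p, (g.app (op T)).hom (c₂ T p) = c T p :=
    hext P₃ _ c (hc₂.map g) hc fun i => by
      show (g.app _).hom (c₂ _ (τ i)) = _
      rw [hc₂τ, he]
  have hg0 : ∀ T p, (g.app (op T)).hom (δ c₂ T p) = 0 := fun T p => by
    rw [← δ_map, show (fun T q => (g.app (op T)).hom (c₂ T q)) = c from funext fun T => funext fun q => hgc T q, hδ]
  obtain ⟨c₁, hc₁, hfc₁⟩ := exists_coch_left f g hinj hex (δ c₂) hc₂.δ hg0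
  have hδ₁ : ∀ T p, δ c₁ T p = 0 := fun T p => hinj _ (by
    rw [← δ_map, show (fun T q => (f.app (op T)).hom (c₁ T q)) = δ c₂ from funext fun T => funext fun q => hfc₁ T q,
      δ_δ, map_zero])
  obtain ⟨b₁, hb₁, hb₁δ⟩ := h1 c₁ hc₁ hδ₁
  obtain ⟨b₂, hb₂, hb₂δ⟩ := h2 (fun T q => c₂ T q - (f.app (op T)).hom (b₁ T q)) (hc₂.sub (hb₁.map f))
    fun T p => by rw [δ_sub, δ_map, hb₁δ, hfc₁, sub_self]
  refine ⟨fun T q => (g.app (op T)).hom (b₂ T q), hb₂.map g, fun T p => ?_⟩
  rw [δ_map, hb₂δ, map_sub, hfg, sub_zero, hgc]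

/-- Exactness passes to quotients in all degrees. -/
theorem exact_quot (h1 : D.Exact P₁) (h2 : D.Exact P₂)
    (hg : ∀ T, B T → Function.Surjective (g.app (op T)).hom) : D.Exact P₃ := fun n =>
  exactAt_quot f g hinj hex hfg (h1 (n + 1)) (h2 n) hg

/-- Functions on the base lift when the first cohomology of the kernel vanishes. -/
theorem exists_lift (h1 : ExactAt D P₁ 0) (h₂ : Presieve.IsSheaf J (P₂ ⋙ forget AddCommGrpCat.{u + 1}))
    (h₃ : Presieve.IsSheaf J (P₃ ⋙ forget AddCommGrpCat.{u + 1}))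
    (z : ∀ T : C, D.β.obj (op T) → P₃.obj (op T))
    (hz : ∀ (T T' : C) (a : T' ⟶ T) (b : D.β.obj (op T)), z T' (D.β.map a.op b) = (P₃.map a.op).hom (z T b))
    (s : ∀ k, P₂.obj (op (D.W k))) (hs : ∀ k, (g.app _).hom (s k) = z _ (D.w k)) :
    ∃ y : ∀ T : C, D.β.obj (op T) → P₂.obj (op T),
      (∀ (T T' : C) (a : T' ⟶ T) (b : D.β.obj (op T)), y T' (D.β.map a.op b) = (P₂.map a.op).hom (y T b)) ∧
      ∀ T b, (g.app (op T)).hom (y T b) = z T b := by
  let r : ∀ T : C, D.L T → P₂.obj (op T) := fun T l => (P₂.map l.2.op).hom (s l.1.down)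
  have hr : ∀ T l, (g.app (op T)).hom (r T l) = z T (Cov.base l) := fun T l => by
    refine (ConcreteCategory.congr_hom (g.naturality l.2.op) (s l.1.down)).trans ?_
    refine Eq.trans ?_ (hz _ _ l.2 _).symm
    exact congrArg (P₃.map l.2.op).hom (hs l.1.down)
  have hrres : ∀ (T T' : C) (a : T' ⟶ T) (l : D.L T), r T' (Cov.res a l) = (P₂.map a.op).hom (r T l) :=
    fun T T' a l => by
      show (P₂.map (a ≫ l.2).op).hom _ = _
      rw [op_comp, P₂.map_comp]
      rfl
  let R : Coch D P₂ 0 := fun T p => r T (p.1 0)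
  have hR : IsNat R := fun T T' a p => hrres T T' a _
  obtain ⟨c, hc, hfc⟩ := exists_coch_left f g hinj hex (δ R) hR.δ fun T p => by
    rw [δ_zero, map_sub]
    show (g.app _).hom (r T (p.1 1)) - (g.app _).hom (r T (p.1 0)) = 0
    rw [hr, hr, p.2 1 0, sub_self]
  obtain ⟨b, hb, hbδ⟩ := h1 c hc fun T p => hinj _ (by
    rw [← δ_map, show (fun T q => (f.app (op T)).hom (c T q)) = δ R from funext fun T => funext fun q => hfc T q,
      δ_δ, map_zero])
  obtain ⟨y, hy, hyl⟩ := exists_glue h₂ (fun T l => r T l - (f.app (op T)).hom (b T (Cov.one l)))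
    (fun T T' a l => by
      show r T' _ - (f.app (op T')).hom (b T' ((Cov.one l).res a)) = _
      rw [hrres, hb, map_sub]
      exact congrArg (fun t => (P₂.map a.op).hom (r T l) - t) (ConcreteCategory.congr_hom (f.naturality a.op) _))
    (fun T l l' hl => by
      let p : D.Tup 1 T := ⟨![l', l], fun i j => by fin_cases i <;> fin_cases j <;> simp [hl]⟩
      have h0 : δ (fun T q => R T q - (f.app (op T)).hom (b T q)) T p = 0 := by
        rw [δ_sub, δ_map, hbδ, hfc, sub_self]
      rw [δ_zero] at h0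
      exact sub_eq_zero.1 h0)
  refine ⟨y, hy, base_ext h₃ (fun T b => (g.app (op T)).hom (y T b)) z (fun T T' a b => ?_) hz fun T l => ?_⟩
  · show (g.app _).hom (y T' _) = _
    rw [hy]
    exact ConcreteCategory.congr_hom (g.naturality a.op) _
  · show (g.app _).hom (y T _) = _
    rw [hyl, map_sub, hfg, sub_zero, hr]

end Quotient

section Colimit

variable {I : Type (u + 1)} [SmallCategory I] [IsFiltered I] (K : I ⥤ Cᵒᵖ ⥤ AddCommGrpCat.{u + 1})
  {G : Cᵒᵖ ⥤ AddCommGrpCat.{u + 1}} (ι : ∀ i, K.obj i ⟶ G)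

theorem exists_common (hι : ∀ {i j : I} (a : i ⟶ j), K.map a ≫ ι j = ι i)
    (hsurj : ∀ T, B T → ∀ x : G.obj (op T), ∃ (i : I) (y : (K.obj i).obj (op T)), ((ι i).app _).hom y = x)
    {N : Type (u + 1)} [Finite N] (P : N → C) (hP : ∀ a, B (P a)) (x : ∀ a, G.obj (op (P a))) :
    ∃ (i : I) (y : ∀ a, (K.obj i).obj (op (P a))), ∀ a, ((ι i).app _).hom (y a) = x a := by
  classical
  cases nonempty_fintype N
  choose i y hy using fun a => hsurj _ (hP a) (x a)
  obtain ⟨k, hk⟩ := IsFiltered.sup_objs_exists (Finset.univ.image i)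
  refine ⟨k, fun a => ((K.map (hk (Finset.mem_image_of_mem i (Finset.mem_univ a))).some).app _).hom (y a),
    fun a => ?_⟩
  refine Eq.trans ?_ (hy a)
  exact ConcreteCategory.congr_hom (NatTrans.congr_app (hι _) _) (y a)

theorem exists_kill (hι : ∀ {i j : I} (a : i ⟶ j), K.map a ≫ ι j = ι i)
    (hinj : ∀ T, B T → ∀ (i : I) (y : (K.obj i).obj (op T)), ((ι i).app _).hom y = 0 →
      ∃ (j : I) (a : i ⟶ j), ((K.map a).app _).hom y = 0)
    {N : Type (u + 1)} [Finite N] (P : N → C) (hP : ∀ a, B (P a)) (i : I) (y : ∀ a, (K.obj i).obj (op (P a)))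
    (hy : ∀ a, ((ι i).app _).hom (y a) = 0) :
    ∃ (j : I) (a : i ⟶ j), ∀ n, ((K.map a).app _).hom (y n) = 0 := by
  classical
  cases nonempty_fintype N
  suffices h : ∀ s : Finset N, ∃ (j : I) (a : i ⟶ j), ∀ n ∈ s, ((K.map a).app _).hom (y n) = 0 by
    obtain ⟨j, a, h⟩ := h Finset.univ
    exact ⟨j, a, fun n => h n (Finset.mem_univ n)⟩
  intro s
  induction s using Finset.induction with
  | empty => exact ⟨i, 𝟙 i, fun n hn => absurd hn (Finset.notMem_empty n)⟩
  | @insert n s _ ih =>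
    obtain ⟨j, a, ha⟩ := ih
    obtain ⟨j', a', ha'⟩ := hinj _ (hP n) j (((K.map a).app _).hom (y n))
      ((ConcreteCategory.congr_hom (NatTrans.congr_app (hι a) _) (y n)).trans (hy n))
    refine ⟨j', a ≫ a', fun n' hn' => ?_⟩
    rw [K.map_comp]
    rcases Finset.mem_insert.1 hn' with rfl | hn'
    · exact ha'
    · show ((K.map a').app _).hom (((K.map a).app _).hom (y n')) = 0
      rw [ha n' hn', map_zero]

/-- Exactness passes to filtered colimits. -/
theorem exact_colimit (hι : ∀ {i j : I} (a : i ⟶ j), K.map a ≫ ι j = ι i)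
    (hsurj : ∀ T, B T → ∀ x : G.obj (op T), ∃ (i : I) (y : (K.obj i).obj (op T)), ((ι i).app _).hom y = x)
    (hinj : ∀ T, B T → ∀ (i : I) (y : (K.obj i).obj (op T)), ((ι i).app _).hom y = 0 →
      ∃ (j : I) (a : i ⟶ j), ((K.map a).app _).hom y = 0)
    (h : ∀ i, D.Exact (K.obj i)) : D.Exact G := by
  intro n c hc hδ
  obtain ⟨P, τ, hP, hext, hex⟩ := exists_coord D (n + 1)
  obtain ⟨P', τ', hP', hext', -⟩ := exists_coord D (n + 2)
  obtain ⟨i, y, hy⟩ := exists_common K ι hι hsurj P hP fun a => c _ (τ a)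
  obtain ⟨ci, hci, hciτ⟩ := hex (K.obj i) y
  have hιc : ∀ T p, ((ι i).app (op T)).hom (ci T p) = c T p :=
    hext G _ c (hci.map (ι i)) hc fun a => by
      show ((ι i).app _).hom (ci _ (τ a)) = _
      rw [hciτ, hy]
  obtain ⟨j, a, ha⟩ := exists_kill K ι hι hinj P' hP' i (fun b => δ ci _ (τ' b)) fun b => by
    rw [← δ_map, show (fun T q => ((ι i).app (op T)).hom (ci T q)) = c from funext fun T => funext fun q => hιc T q, hδ]
  obtain ⟨b, hb, hbδ⟩ := h j n (fun T q => ((K.map a).app (op T)).hom (ci T q)) (hci.map _) fun T p =>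
    hext' (K.obj j) _ (fun _ _ => 0) (hci.map _).δ (fun _ _ _ _ => (map_zero _).symm)
      (fun b => by rw [δ_map]; exact ha b) T p
  refine ⟨fun T q => ((ι j).app (op T)).hom (b T q), hb.map (ι j), fun T p => ?_⟩
  rw [δ_map, hbδ]
  exact (ConcreteCategory.congr_hom (NatTrans.congr_app (hι a) _) (ci T p)).trans (hιc T p)

end Colimit

end Groth.Agent.EtQC.Glob
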