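import Groth.Agent.EtQC.Glob.Colim
import Mathlib.Algebra.Category.Grp.Adjunctions
import Mathlib.LinearAlgebra.FreeModule.Basic
import Mathlib.Algebra.Homology.DerivedCategory.Ext.ExactSequences
import Mathlib.Algebra.FreeAbelianGroup.Finsupp

/-!
# Free sheaves on presheaves of sets and Mayer-Vietoris for cohomology over them
-/

set_option autoImplicit false
set_option backward.isDefEq.respectTransparency false
set_option backward.isDefEq.respectTransparency.types false

universe u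

set_option maxHeartbeats 800000

open CategoryTheory CategoryTheory.Limits AlgebraicGeometry Opposite Abelian AlgSp

namespace Groth.Agent.EtQC.Glob

variable {S : Scheme.{u}} {X : Sp S}

/-- The free abelian sheaf on a presheaf of sets. -/
noncomputable abbrev zb (β : (EtOver X)ᵒᵖ ⥤ Type (u + 1)) : AbEt X :=
  (presheafToSheaf (etTop X) AddCommGrpCat.{u + 1}).obj (β ⋙ AddCommGrpCat.free)

section Val

variable {β β' : (EtOver X)ᵒᵖ ⥤ Type (u + 1)} {G H : AbEt X}

/-- The family of sections of a map out of a free sheaf. -/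
noncomputable def val (φ : zb β ⟶ G) (E : EtOver X) (b : β.obj (op E)) : G.obj.obj (op E) :=
  (((sheafificationAdjunction (etTop X) AddCommGrpCat.{u + 1}).homEquiv _ _ φ).app (op E)).hom
    (FreeAbelianGroup.of b)

theorem val_res (φ : zb β ⟶ G) {E E' : EtOver X} (a : E' ⟶ E) (b : β.obj (op E)) :
    val φ E' (β.map a.op b) = (G.obj.map a.op).hom (val φ E b) := by
  have h := ConcreteCategory.congr_hom
    (((sheafificationAdjunction (etTop X) AddCommGrpCat.{u + 1}).homEquiv _ _ φ).naturality a.op)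
    (FreeAbelianGroup.of b)
  refine Eq.trans ?_ h
  exact congrArg (((sheafificationAdjunction (etTop X) AddCommGrpCat.{u + 1}).homEquiv _ _ φ).app (op E')).hom
    (FreeAbelianGroup.map_of_apply b).symm

theorem val_comp (φ : zb β ⟶ G) (g : G ⟶ H) (E : EtOver X) (b : β.obj (op E)) :
    val (φ ≫ g) E b = (g.hom.app (op E)).hom (val φ E b) := by
  rw [val, Adjunction.homEquiv_naturality_right]
  rfl

/-- The map of free sheaves. -/
noncomputable abbrev zbMap (m : β ⟶ β') : zb β ⟶ zb β' :=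
  (presheafToSheaf (etTop X) AddCommGrpCat.{u + 1}).map (Functor.whiskerRight m AddCommGrpCat.free)

theorem val_map (m : β ⟶ β') (φ : zb β' ⟶ G) (E : EtOver X) (b : β.obj (op E)) :
    val (zbMap m ≫ φ) E b = val φ E (m.app (op E) b) := by
  rw [val, zbMap, Adjunction.homEquiv_naturality_left]
  exact congrArg (((sheafificationAdjunction (etTop X) AddCommGrpCat.{u + 1}).homEquiv _ _ φ).app (op E)).hom
    (FreeAbelianGroup.map_of_apply b)

theorem val_ext {φ ψ : zb β ⟶ G} (h : ∀ E b, val φ E b = val ψ E b) : φ = ψ :=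
  ((sheafificationAdjunction (etTop X) AddCommGrpCat.{u + 1}).homEquiv _ _).injective
    (NatTrans.ext (funext fun ⟨E⟩ => AddCommGrpCat.hom_ext (FreeAbelianGroup.lift_ext _ _ (h E))))

theorem val_add (φ ψ : zb β ⟶ G) (E : EtOver X) (b : β.obj (op E)) :
    val (φ + ψ) E b = val φ E b + val ψ E b := by
  simp only [val, Adjunction.homEquiv_unit, Functor.map_add, Preadditive.comp_add]
  rfl

theorem val_neg (φ : zb β ⟶ G) (E : EtOver X) (b : β.obj (op E)) : val (-φ) E b = - val φ E b := by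
  simp only [val, Adjunction.homEquiv_unit, Functor.map_neg, Preadditive.comp_neg]
  rfl

theorem val_zero (E : EtOver X) (b : β.obj (op E)) : val (0 : zb β ⟶ G) E b = 0 := by
  rw [val, Adjunction.homEquiv_unit, Functor.map_zero, comp_zero]
  rfl

theorem exists_val (σ : ∀ E : EtOver X, β.obj (op E) → G.obj.obj (op E))
    (hσ : ∀ (E E' : EtOver X) (a : E' ⟶ E) (b : β.obj (op E)), σ E' (β.map a.op b) = (G.obj.map a.op).hom (σ E b)) :
    ∃ φ : zb β ⟶ G, ∀ E b, val φ E b = σ E b := by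
  refine ⟨((sheafificationAdjunction (etTop X) AddCommGrpCat.{u + 1}).homEquiv _ _).symm
    { app := fun E => AddCommGrpCat.ofHom (FreeAbelianGroup.lift (σ E.unop))
      naturality := fun E E' a => AddCommGrpCat.hom_ext (FreeAbelianGroup.lift_ext _ _ fun b => ?_) }, fun E b => ?_⟩
  · refine (congrArg (FreeAbelianGroup.lift (σ E'.unop)) (FreeAbelianGroup.map_of_apply b)).trans ?_
    refine (FreeAbelianGroup.lift_apply_of _ _).trans ?_
    refine (hσ _ _ a.unop b).trans ?_
    exact congrArg (G.obj.map a).hom (FreeAbelianGroup.lift_apply_of _ _).symm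
  · rw [val, Equiv.apply_symm_apply]
    exact FreeAbelianGroup.lift_apply_of _ _

theorem mono_zbMap (m : β ⟶ β') (hm : ∀ E, Function.Injective (m.app E)) : Mono (zbMap m) := by
  have : Mono (Functor.whiskerRight m AddCommGrpCat.free) := by
    haveI : ∀ E, Mono ((Functor.whiskerRight m AddCommGrpCat.free).app E) := fun E => by
      refine ConcreteCategory.mono_of_injective _ ?_
      show Function.Injective (FreeAbelianGroup.map (m.app E))
      intro x y hxy
      apply (FreeAbelianGroup.equivFinsupp _).injective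
      apply Finsupp.mapDomain_injective (hm E)
      have key : ∀ z, Finsupp.mapDomain (m.app E) (FreeAbelianGroup.equivFinsupp _ z) =
          FreeAbelianGroup.equivFinsupp _ (FreeAbelianGroup.map (m.app E) z) := by
        intro z
        induction z using FreeAbelianGroup.induction_on with
        | zero => simp
        | of b =>
          rw [FreeAbelianGroup.map_of_apply]
          show Finsupp.mapDomain _ (FreeAbelianGroup.toFinsupp (FreeAbelianGroup.of b)) =
            FreeAbelianGroup.toFinsupp (FreeAbelianGroup.of (m.app E b))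
          rw [FreeAbelianGroup.toFinsupp_of, FreeAbelianGroup.toFinsupp_of]
          exact Finsupp.mapDomain_single
        | neg b hb =>
          rw [map_neg, map_neg, map_neg, ← hb]
          exact map_neg (Finsupp.mapDomain.addMonoidHom (m.app E)) _
        | add a b ha hb => rw [map_add, map_add, map_add, ← ha, ← hb]; exact Finsupp.mapDomain_add
      rw [key, key, hxy]
    exact NatTrans.mono_of_mono_app _
  exact (presheafToSheaf (etTop X) AddCommGrpCat.{u + 1}).map_mono _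

end Val

/-- A gluing square of presheaves of sets. -/
structure Square (X : Sp S) where
  /-- The union. -/
  β : (EtOver X)ᵒᵖ ⥤ Type (u + 1)
  /-- The first part. -/
  β₁ : (EtOver X)ᵒᵖ ⥤ Type (u + 1)
  /-- The second part. -/
  β₂ : (EtOver X)ᵒᵖ ⥤ Type (u + 1)
  /-- The overlap. -/
  β₀ : (EtOver X)ᵒᵖ ⥤ Type (u + 1)
  /-- The map of the first part. -/
  j₁ : β₁ ⟶ β
  /-- The map of the second part. -/
  j₂ : β₂ ⟶ β
  /-- The map to the first part. -/
  i₁ : β₀ ⟶ β₁
  /-- The map to the second part. -/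
  i₂ : β₀ ⟶ β₂
  comm : i₁ ≫ j₁ = i₂ ≫ j₂
  inj : ∀ E, Function.Injective (i₂.app E)
  inj₁ : ∀ E, Function.Injective (j₁.app E)
  pull : ∀ (E : EtOver X) (a : β₁.obj (op E)) (b : β₂.obj (op E)), j₁.app _ a = j₂.app _ b →
    ∃ c : β₀.obj (op E), i₂.app _ c = b
  cover : ∀ (E : EtOver X) (x : β.obj (op E)), ∃ R ∈ etTop X E, ∀ ⦃E' : EtOver X⦄ (a : E' ⟶ E), R a →
    (∃ y, j₁.app _ y = β.map a.op x) ∨ (∃ y, j₂.app _ y = β.map a.op x)
  diag : ∀ (E : EtOver X) (b b' : β₂.obj (op E)), j₂.app _ b = j₂.app _ b' → ∃ R ∈ etTop X E,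
    ∀ ⦃E' : EtOver X⦄ (a : E' ⟶ E), R a → β₂.map a.op b = β₂.map a.op b' ∨
      ((∃ c, i₂.app _ c = β₂.map a.op b) ∧ ∃ c, i₂.app _ c = β₂.map a.op b')

namespace Square

variable (Q : Square X) {G : AbEt X}

theorem exists_desc (φ₁ : zb Q.β₁ ⟶ G) (φ₂ : zb Q.β₂ ⟶ G) (h : zbMap Q.i₁ ≫ φ₁ = zbMap Q.i₂ ≫ φ₂) :
    ∃ φ : zb Q.β ⟶ G, zbMap Q.j₁ ≫ φ = φ₁ ∧ zbMap Q.j₂ ≫ φ = φ₂ := by
  have hi : ∀ E c, val φ₁ E (Q.i₁.app _ c) = val φ₂ E (Q.i₂.app _ c) := fun E c => by
    rw [← val_map, ← val_map, h]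
  have hsh := isSheaf_type G
  have h12 : ∀ E (a : Q.β₁.obj (op E)) (b : Q.β₂.obj (op E)), Q.j₁.app _ a = Q.j₂.app _ b →
      val φ₁ E a = val φ₂ E b := fun E a b hab => by
    obtain ⟨c, rfl⟩ := Q.pull E a b hab
    have : Q.i₁.app _ c = a := Q.inj₁ _ (by
      rw [hab]
      exact ConcreteCategory.congr_hom (NatTrans.congr_app Q.comm (op E)) c)
    rw [← this, hi]
  have h22 : ∀ E (b b' : Q.β₂.obj (op E)), Q.j₂.app _ b = Q.j₂.app _ b' → val φ₂ E b = val φ₂ E b' :=
    fun E b b' hb => by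
      obtain ⟨R, hR, hl⟩ := Q.diag E b b' hb
      refine (hsh.isSeparated R hR).ext fun E' a ha => ?_
      show (G.obj.map a.op).hom _ = (G.obj.map a.op).hom _
      rw [← val_res, ← val_res]
      rcases hl a ha with e | ⟨⟨c, hc⟩, c', hc'⟩
      · rw [e]
      · rw [← hc, ← hc', ← hi, ← hi]
        refine congrArg (val φ₁ E') (Q.inj₁ _ ?_)
        have e1 := ConcreteCategory.congr_hom (NatTrans.congr_app Q.comm (op E')) c
        have e2 := ConcreteCategory.congr_hom (NatTrans.congr_app Q.comm (op E')) c'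
        refine e1.trans (Eq.trans ?_ e2.symm)
        show Q.j₂.app _ (Q.i₂.app _ c) = Q.j₂.app _ (Q.i₂.app _ c')
        rw [hc, hc', NatTrans.naturality_apply, NatTrans.naturality_apply, hb]
  have key : ∀ E (x : Q.β.obj (op E)), ∃ v : G.obj.obj (op E), ∀ E' (a : E' ⟶ E),
      (∀ y, Q.j₁.app _ y = Q.β.map a.op x → (G.obj.map a.op).hom v = val φ₁ E' y) ∧
      (∀ y, Q.j₂.app _ y = Q.β.map a.op x → (G.obj.map a.op).hom v = val φ₂ E' y) := by
    intro E x
    obtain ⟨R, hR, hl⟩ := Q.cover E x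
    have hone : ∀ E' (a : E' ⟶ E), ((∃ y, Q.j₁.app _ y = Q.β.map a.op x) ∨ ∃ y, Q.j₂.app _ y = Q.β.map a.op x) →
        ∃ v : G.obj.obj (op E'), (∀ y, Q.j₁.app _ y = Q.β.map a.op x → v = val φ₁ E' y) ∧
          (∀ y, Q.j₂.app _ y = Q.β.map a.op x → v = val φ₂ E' y) := by
      rintro E' a (⟨y, hy⟩ | ⟨y, hy⟩)
      · exact ⟨val φ₁ E' y, fun y' hy' => congrArg _ (Q.inj₁ _ (hy.trans hy'.symm)),
          fun y' hy' => h12 _ _ _ (hy.trans hy'.symm)⟩
      · exact ⟨val φ₂ E' y, fun y' hy' => (h12 _ _ _ (hy'.trans hy.symm)).symm,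
          fun y' hy' => h22 _ _ _ (hy.trans hy'.symm)⟩
    choose fv hfv using fun E' (a : E' ⟶ E) (ha : R a) => hone E' a (hl a ha)
    let fam : Presieve.FamilyOfElements (G.obj ⋙ forget AddCommGrpCat.{u + 1}) (R : Presieve E) :=
      fun E' a ha => fv E' a ha
    have hres : ∀ {E' E'' : EtOver X} (a : E' ⟶ E) (ha : R a) (g : E'' ⟶ E'),
        (G.obj.map g.op).hom (fv E' a ha) = fv E'' (g ≫ a) (R.downward_closed ha g) := by
      intro E' E'' a ha g
      rcases hl a ha with ⟨y, hy⟩ | ⟨y, hy⟩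
      · rw [(hfv E' a ha).1 y hy, ← val_res]
        refine ((hfv E'' (g ≫ a) _).1 _ ?_).symm
        rw [NatTrans.naturality_apply, hy, op_comp, Functor.map_comp_apply]
      · rw [(hfv E' a ha).2 y hy, ← val_res]
        refine ((hfv E'' (g ≫ a) _).2 _ ?_).symm
        rw [NatTrans.naturality_apply, hy, op_comp, Functor.map_comp_apply]
    have hfam : fam.Compatible := by
      intro Y₁ Y₂ Z g₁ g₂ f₁ f₂ h₁ h₂ hw
      show (G.obj.map g₁.op).hom (fv _ f₁ h₁) = (G.obj.map g₂.op).hom (fv _ f₂ h₂)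
      rw [hres, hres]
      have : ∀ (a b : Z ⟶ E) (ha : R a) (hb : R b), a = b → fv Z a ha = fv Z b hb := by
        rintro a _ ha hb rfl; rfl
      exact this _ _ _ _ hw
    obtain ⟨v, hv, -⟩ := hsh R hR fam hfam
    have hmain : ∀ E' (a : E' ⟶ E) E'' (g : E'' ⟶ E') (hg : R (g ≫ a)),
        (G.obj.map g.op).hom ((G.obj.map a.op).hom v) = fv E'' (g ≫ a) hg := fun E' a E'' g hg => by
      refine Eq.trans ?_ (hv (g ≫ a) hg)
      show _ = (G.obj.map (g ≫ a).op).hom v
      rw [op_comp, G.obj.map_comp]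
      rfl
    refine ⟨v, fun E' a => ⟨fun y hy => ?_, fun y hy => ?_⟩⟩
    · refine (hsh.isSeparated _ ((etTop X).pullback_stable a hR)).ext fun E'' g hg => ?_
      show (G.obj.map g.op).hom _ = (G.obj.map g.op).hom _
      rw [hmain E' a E'' g hg, ← val_res]
      refine (hfv E'' (g ≫ a) hg).1 _ ?_
      rw [NatTrans.naturality_apply, hy, op_comp, Functor.map_comp_apply]
    · refine (hsh.isSeparated _ ((etTop X).pullback_stable a hR)).ext fun E'' g hg => ?_
      show (G.obj.map g.op).hom _ = (G.obj.map g.op).hom _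
      rw [hmain E' a E'' g hg, ← val_res]
      refine (hfv E'' (g ≫ a) hg).2 _ ?_
      rw [NatTrans.naturality_apply, hy, op_comp, Functor.map_comp_apply]
  choose σ hσ using key
  obtain ⟨φ, hφ⟩ := exists_val (G := G) σ fun E E' a x => by
    obtain ⟨R, hR, hl⟩ := Q.cover E' (Q.β.map a.op x)
    refine (hsh.isSeparated R hR).ext fun E'' g hg => ?_
    show (G.obj.map g.op).hom _ = (G.obj.map g.op).hom ((G.obj.map a.op).hom _)
    have e : (G.obj.map g.op).hom ((G.obj.map a.op).hom (σ E x)) = (G.obj.map (g ≫ a).op).hom (σ E x) := by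
      rw [op_comp, G.obj.map_comp]
      rfl
    rw [e]
    rcases hl g hg with ⟨y, hy⟩ | ⟨y, hy⟩
    · rw [(hσ E' _ E'' g).1 y hy, (hσ E x E'' (g ≫ a)).1 y (by rw [hy, op_comp, Functor.map_comp_apply])]
    · rw [(hσ E' _ E'' g).2 y hy, (hσ E x E'' (g ≫ a)).2 y (by rw [hy, op_comp, Functor.map_comp_apply])]
  refine ⟨φ, val_ext fun E b => ?_, val_ext fun E b => ?_⟩
  · rw [val_map, hφ]
    have h1 := (hσ E (Q.j₁.app _ b) E (𝟙 E)).1 b (by simp)
    rw [op_id, G.obj.map_id] at h1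
    exact h1
  · rw [val_map, hφ]
    have h1 := (hσ E (Q.j₂.app _ b) E (𝟙 E)).2 b (by simp)
    rw [op_id, G.obj.map_id] at h1
    exact h1

theorem hom_ext (φ ψ : zb Q.β ⟶ G) (h₁ : zbMap Q.j₁ ≫ φ = zbMap Q.j₁ ≫ ψ)
    (h₂ : zbMap Q.j₂ ≫ φ = zbMap Q.j₂ ≫ ψ) : φ = ψ := val_ext fun E x => by
  obtain ⟨R, hR, hl⟩ := Q.cover E x
  refine ((isSheaf_type G).isSeparated R hR).ext fun E' a ha => ?_
  show (G.obj.map a.op).hom _ = (G.obj.map a.op).hom _
  rw [← val_res, ← val_res]
  rcases hl a ha with ⟨y, hy⟩ | ⟨y, hy⟩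
  · rw [← hy, ← val_map, ← val_map, h₁]
  · rw [← hy, ← val_map, ← val_map, h₂]

/-- The Mayer-Vietoris complex. -/
noncomputable def complex : ShortComplex (AbEt X) :=
  ShortComplex.mk (biprod.lift (zbMap Q.i₁) (-zbMap Q.i₂)) (biprod.desc (zbMap Q.j₁) (zbMap Q.j₂)) (by
    rw [biprod.lift_desc, Preadditive.neg_comp, ← sub_eq_add_neg, sub_eq_zero]
    refine val_ext fun E b => ?_
    have e : ∀ φ : zb Q.β ⟶ zb Q.β, val (zbMap Q.i₁ ≫ zbMap Q.j₁ ≫ φ) E b =
        val (zbMap Q.i₂ ≫ zbMap Q.j₂ ≫ φ) E b := fun φ => by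
      rw [val_map, val_map, val_map, val_map]
      exact congrArg (val φ E) (ConcreteCategory.congr_hom (NatTrans.congr_app Q.comm (op E)) b)
    simpa using e (𝟙 _))

theorem shortExact : Q.complex.ShortExact := by
  haveI : Mono Q.complex.f := by
    haveI := mono_zbMap Q.i₂ Q.inj
    refine ⟨fun {Z} a b e => ?_⟩
    have := congrArg (· ≫ biprod.snd) e
    simp [complex] at this
    exact (cancel_mono (zbMap Q.i₂)).1 this
  haveI : Epi Q.complex.g := ⟨fun {Z} a b e => Q.hom_ext a b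
    (by simpa [complex] using congrArg (biprod.inl ≫ ·) e) (by simpa [complex] using congrArg (biprod.inr ≫ ·) e)⟩
  refine { exact := ShortComplex.exact_of_g_is_cokernel _ ?_ }
  refine CokernelCofork.IsColimit.ofπ' _ _ fun {Z} k hk => ?_
  have h : zbMap Q.i₁ ≫ (biprod.inl ≫ k) = zbMap Q.i₂ ≫ (biprod.inr ≫ k) := by
    rw [← sub_eq_zero, sub_eq_add_neg, ← Preadditive.neg_comp]
    refine Eq.trans ?_ hk
    simp [complex, biprod.lift_eq, Preadditive.add_comp]
  refine ⟨(Q.exists_desc _ _ h).choose, biprod.hom_ext' _ _ ?_ ?_⟩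
  · simpa [complex] using (Q.exists_desc _ _ h).choose_spec.1
  · simpa [complex] using (Q.exists_desc _ _ h).choose_spec.2

/-- Mayer-Vietoris vanishing. -/
theorem subsingleton_ext (F : AbEt X) (q : ℕ) (h₁ : Subsingleton (Ext (zb Q.β₁) F (q + 1)))
    (h₂ : Subsingleton (Ext (zb Q.β₂) F (q + 1))) (h₀ : Subsingleton (Ext (zb Q.β₀) F q)) :
    Subsingleton (Ext (zb Q.β) F (q + 1)) := by
  have hm : ∀ y : Ext Q.complex.X₂ F (q + 1), y = 0 := fun y => by
    show (y : Ext (zb Q.β₁ ⊞ zb Q.β₂) F (q + 1)) = 0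
    have e : (Ext.mk₀ (𝟙 (zb Q.β₁ ⊞ zb Q.β₂))).comp y (zero_add _) = y := Ext.mk₀_id_comp y
    rw [← e, ← biprod.total, Ext.mk₀_add, Ext.add_comp, ← Ext.mk₀_comp_mk₀, ← Ext.mk₀_comp_mk₀,
      Ext.comp_assoc_of_second_deg_zero, Ext.comp_assoc_of_second_deg_zero,
      Subsingleton.elim ((Ext.mk₀ biprod.inl).comp y (zero_add _)) 0,
      Subsingleton.elim ((Ext.mk₀ biprod.inr).comp y (zero_add _)) 0, Ext.comp_zero, Ext.comp_zero, add_zero]
  refine subsingleton_of_forall_eq 0 fun x => ?_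
  obtain ⟨z, hz⟩ := Ext.contravariant_sequence_exact₃ Q.shortExact F x (hm _) (add_comm 1 q)
  haveI : Subsingleton (Ext Q.complex.X₁ F q) := h₀
  rw [← hz, Subsingleton.elim z 0, Ext.comp_zero]

end Square

end Groth.Agent.EtQC.Glob
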