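import Groth.Agent.EtQC.Glob.Exact
import Groth.Agent.EtQC.Sec
import Groth.Agent.AlgSpDec.ArtinAffine
import Groth.Agent.AlgSpDec.LimDescent
import Groth.Prelude.Def_AlgSpOX

/-!
# Quasi-compact quasi-separated objects of the small etale site and the coverings they give
-/

set_option autoImplicit false
set_option backward.isDefEq.respectTransparency false
set_option backward.isDefEq.respectTransparency.types false

universe u

open CategoryTheory CategoryTheory.Limits AlgebraicGeometry Opposite AlgSp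

namespace Groth.Agent.EtQC.Glob

variable {S : Scheme.{u}} {X : Sp S}

/-- Quasi-compact quasi-separated objects. -/
def Qcqs (E : EtOver X) : Prop := CompactSpace ↥E.obj.left.left ∧ QuasiSeparatedSpace ↥E.obj.left.left

theorem qcqs_of_isAffine (E : EtOver X) [IsAffine E.obj.left.left] : Qcqs E := ⟨inferInstance, inferInstance⟩

theorem qcqs_of_iso {E E' : EtOver X} (e : E ≅ E') (h : Qcqs E') : Qcqs E := by
  obtain ⟨h1, h2⟩ := h
  let φ : E.obj.left.left ≅ E'.obj.left.left := (EtOver.toScheme X).mapIso e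
  exact ⟨QuasiCompact.compactSpace_of_compactSpace φ.hom, quasiSeparatedSpace_of_quasiSeparated φ.hom⟩

theorem qcqs_pullbackObj {E₁ E₂ E₀ : EtOver X} (g₁ : E₁ ⟶ E₀) (g₂ : E₂ ⟶ E₀) (h₀ : Qcqs E₀) (h₁ : Qcqs E₁)
    (h₂ : Qcqs E₂) : Qcqs (EtOver.pullbackObj g₁ g₂) := by
  obtain ⟨-, _⟩ := h₀
  obtain ⟨_, _⟩ := h₁
  obtain ⟨_, _⟩ := h₂
  haveI : QuasiCompact g₂.hom.left.left := quasiCompact_of_compactSpace _
  haveI : QuasiSeparated g₂.hom.left.left := inferInstance
  have hqc : QuasiCompact (EtOver.pullbackFst g₁ g₂).hom.left.left :=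
    MorphismProperty.of_isPullback (P := @QuasiCompact) (isPullback_left g₁ g₂).flip inferInstance
  have hqs : QuasiSeparated (EtOver.pullbackFst g₁ g₂).hom.left.left :=
    MorphismProperty.of_isPullback (P := @QuasiSeparated) (isPullback_left g₁ g₂).flip inferInstance
  exact ⟨QuasiCompact.compactSpace_of_compactSpace (EtOver.pullbackFst g₁ g₂).hom.left.left,
    quasiSeparatedSpace_of_quasiSeparated (EtOver.pullbackFst g₁ g₂).hom.left.left⟩

theorem qcqs_prodObj [QuasiSeparatedSpace ↥S] (hqs : IsQuasiSeparatedSp X) (E₁ E₂ : EtOver X) (h₁ : Qcqs E₁)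
    (h₂ : Qcqs E₂) : Qcqs (EtOver.prodObj E₁ E₂) := by
  obtain ⟨_, _⟩ := h₁
  obtain ⟨_, _⟩ := h₂
  let r := E₂.property.1
  let R := r.pullback E₁.obj.hom
  let t : R ⟶ E₁.obj.left := r.snd E₁.obj.hom
  let q : R ⟶ E₂.obj.left := r.fst' E₁.obj.hom
  have sq := r.isPullback' E₁.obj.hom
  haveI : QuasiCompact t.left := AlgSpDec.quasiCompact_fibreProd hqs sq
  haveI : QuasiSeparated (E₂.obj.left.hom ≫ terminal.from S) := by
    rw [terminal.comp_from]; exact (quasiSeparatedSpace_iff_quasiSeparated _).1 inferInstance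
  haveI : QuasiSeparated E₂.obj.left.hom := QuasiSeparated.of_comp E₂.obj.left.hom (terminal.from S)
  let ν : R.left ⟶ pullback E₁.obj.left.hom E₂.obj.left.hom :=
    pullback.lift t.left q.left ((CategoryTheory.Over.w t).trans (CategoryTheory.Over.w q).symm)
  haveI : Mono ν := ⟨fun {Z} a b e => by
    have et : a ≫ t.left = b ≫ t.left := by
      simpa [ν] using congrArg (· ≫ pullback.fst _ _) e
    have eq' : a ≫ q.left = b ≫ q.left := by
      simpa [ν] using congrArg (· ≫ pullback.snd _ _) e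
    have eR : a ≫ R.hom = b ≫ R.hom := by
      rw [← CategoryTheory.Over.w t, reassoc_of% et]
    let a' : CategoryTheory.Over.mk (a ≫ R.hom) ⟶ R := CategoryTheory.Over.homMk a rfl
    let b' : CategoryTheory.Over.mk (a ≫ R.hom) ⟶ R := CategoryTheory.Over.homMk b eR.symm
    have : a' = b' := r.hom_ext' (CategoryTheory.Over.OverMorphism.ext eq') (CategoryTheory.Over.OverMorphism.ext et)
    exact congrArg (fun f => f.left) this⟩
  haveI : QuasiSeparated t.left := by
    have e : ν ≫ pullback.fst _ _ = t.left := pullback.lift_fst _ _ _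
    rw [← e]
    infer_instance
  exact ⟨QuasiCompact.compactSpace_of_compactSpace t.left, quasiSeparatedSpace_of_quasiSeparated t.left⟩

/-- A covering sieve of a quasi-compact object contains finitely many affine objects covering it. -/
theorem exists_affine_refinement {E : EtOver X} [CompactSpace ↥E.obj.left.left] {R : Sieve E} (hR : R ∈ etTop X E) :
    ∃ (n : ℕ) (V : Fin n → EtOver X) (h : ∀ i, V i ⟶ E), (∀ i, IsAffine (V i).obj.left.left) ∧ (∀ i, R (h i)) ∧
      ∀ x : ↥E.obj.left.left, ∃ i, x ∈ Set.range (h i).hom.left.left := by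
  choose W g hg hx using fun x : ↥E.obj.left.left => exists_arrow_of_mem R hR x
  choose w hw using fun x => hx x
  choose O hO hwO hle using fun x : ↥E.obj.left.left =>
    exists_isAffineOpen_mem_and_subset (x := w x) (U := (⊤ : (W x).obj.left.left.Opens)) trivial
  let U : ↥E.obj.left.left → Set ↥E.obj.left.left := fun x =>
    Set.range (AlgSpDec.etOpenι (W x) (O x) ≫ g x).hom.left.left
  have hopen : ∀ x, IsOpen (U x) := fun x => by
    haveI := EtOver.etale_left (AlgSpDec.etOpenι (W x) (O x) ≫ g x)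
    exact (AlgSpDec.etOpenι (W x) (O x) ≫ g x).hom.left.left.isOpenMap.isOpen_range
  have hmem : ∀ x, x ∈ U x := fun x => ⟨⟨w x, hwO x⟩, hw x⟩
  obtain ⟨T, hT⟩ := isCompact_univ.elim_finite_subcover U hopen fun x _ => Set.mem_iUnion.2 ⟨x, hmem x⟩
  refine ⟨T.card, fun i => AlgSpDec.etOpen (W (T.equivFin.symm i).1) (O (T.equivFin.symm i).1),
    fun i => AlgSpDec.etOpenι _ _ ≫ g _, fun i => hO _, fun i => R.downward_closed (hg _) _, fun x => ?_⟩
  obtain ⟨y, hyT, hy⟩ := Set.mem_iUnion₂.1 (hT (Set.mem_univ x))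
  have key : ∀ z : T, z = ⟨y, hyT⟩ → x ∈ Set.range (AlgSpDec.etOpenι (W z.1) (O z.1) ≫ g z.1).hom.left.left := by
    rintro _ rfl
    exact hy
  exact ⟨T.equivFin ⟨y, hyT⟩, key _ (T.equivFin.symm_apply_apply _)⟩

/-- Coverings of good objects have finite good refinements. -/
theorem hasFiniteRefinements : EtFound.FilteredSectionsGen.HasFiniteRefinements (etTop X) (Qcqs (X := X)) := by
  intro E hE R hR
  haveI := hE.1
  obtain ⟨n, V, g, hV, hgR, hc⟩ := exists_affine_refinement hR
  have hVq : ∀ k, Qcqs (V k) := fun k => haveI := hV k; qcqs_of_isAffine _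
  exact ⟨n, V, g, hgR, AlgSpDec.ofArrows_mem_etTop V g hc, hVq, fun k l =>
    qcqs_of_iso (EtOver.isPullback (g k) (g l)).isoPullback.symm (qcqs_pullbackObj _ _ hE (hVq k) (hVq l))⟩

/-- Sections over good objects commute with filtered colimits. -/
theorem preservesColimitsOfShape_sections (E : EtOver X) (hE : Qcqs E) (I : Type (u + 1)) [SmallCategory I]
    [IsFiltered I] : PreservesColimitsOfShape I (sheafToPresheaf (etTop X) AddCommGrpCat.{u + 1} ⋙
      (evaluation (EtOver X)ᵒᵖ AddCommGrpCat.{u + 1}).obj (op E)) :=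
  EtFound.FilteredSectionsGen.preservesColimitsOfShape_sections_ab.{u + 1} (I := I) hasFiniteRefinements hE

/-- A finite covering of a good object by good objects. -/
noncomputable def covOf (V : EtOver X) (hV : Qcqs V) {m : ℕ} (W : Fin m → EtOver X) (g : ∀ k, W k ⟶ V)
    (hW : ∀ k, Qcqs (W k)) (hc : ∀ x : ↥V.obj.left.left, ∃ k, x ∈ Set.range (g k).hom.left.left) :
    Cov (etTop X) (Qcqs (X := X)) where
  β := yoneda.obj V ⋙ uliftFunctor.{u + 1}
  m := m
  W := W
  w k := ⟨g k⟩
  good := hW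
  meet {A A'} a a' hA hA' := ⟨EtOver.pullbackObj a.down a'.down, EtOver.pullbackFst _ _, EtOver.pullbackSnd _ _,
    qcqs_pullbackObj _ _ hV hA hA', congrArg ULift.up (EtOver.pullback_condition a.down a'.down),
    fun {T} f g h => by
      have h' : f ≫ a.down = g ≫ a'.down := congrArg ULift.down h
      exact ⟨(EtOver.isPullback _ _).lift f g h', ⟨(EtOver.isPullback _ _).lift_fst _ _ h',
        (EtOver.isPullback _ _).lift_snd _ _ h'⟩, fun k hk => (EtOver.isPullback _ _).hom_ext
          (hk.1.trans ((EtOver.isPullback _ _).lift_fst _ _ h').symm)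
          (hk.2.trans ((EtOver.isPullback _ _).lift_snd _ _ h').symm)⟩⟩
  cover T b := ⟨(Sieve.ofArrows W g).pullback b.down,
    (etTop X).pullback_stable _ (AlgSpDec.ofArrows_mem_etTop W g hc), fun T' a ha => by
      obtain ⟨k, l, hl⟩ := (Sieve.mem_ofArrows_iff _ _ _).1 ha
      exact ⟨k, l, congrArg ULift.up hl.symm⟩⟩

/-- The covering of the final object by one surjective good object. -/
noncomputable def covTop [QuasiSeparatedSpace ↥S] (hqs : IsQuasiSeparatedSp X) (E₀ : EtOver X) (h₀ : Qcqs E₀)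
    (hs : RepWith @Surjective E₀.obj.hom) : Cov (etTop X) (Qcqs (X := X)) where
  β := (Functor.const (EtOver X)ᵒᵖ).obj PUnit.{u + 2}
  m := 1
  W _ := E₀
  w _ := PUnit.unit
  good _ := h₀
  meet {A A'} _ _ hA hA' := ⟨EtOver.prodObj A A', EtOver.prodFst A A', EtOver.prodSnd A A',
    qcqs_prodObj hqs A A' hA hA', rfl, fun {T} f g _ => by
      obtain ⟨l, hl⟩ := BinaryFan.IsLimit.lift' (EtOver.prodIsLimit A A') f g
      exact ⟨l, hl, fun k hk => BinaryFan.IsLimit.hom_ext (EtOver.prodIsLimit A A')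
        (hk.1.trans hl.1.symm) (hk.2.trans hl.2.symm)⟩⟩
  cover T _ := ⟨Sieve.ofArrows (fun _ : Unit => EtOver.prodObj T E₀) (fun _ => EtOver.prodFst T E₀),
    AlgSpDec.ofArrows_mem_etTop _ _ fun x => by
      haveI : Surjective (E₀.property.1.snd T.obj.hom).left := hs.2 _ _ _ (E₀.property.1.isPullback T.obj.hom)
      exact ⟨(), (E₀.property.1.snd T.obj.hom).left.surjective x⟩,
    fun T' a ha => by
      obtain ⟨_, l, hl⟩ := (Sieve.mem_ofArrows_iff _ _ _).1 ha
      exact ⟨0, l ≫ EtOver.prodSnd T E₀, rfl⟩⟩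

/-- A quasi-compact space has a surjective affine object. -/
theorem exists_atlas (hqc : IsQuasiCompactSp X) :
    ∃ E₀ : EtOver X, IsAffine E₀.obj.left.left ∧ RepWith @Surjective E₀.obj.hom := by
  obtain ⟨U, a, hU, ha, hs⟩ := AlgSpDec.exists_affine_atlas hqc
  exact ⟨EtOver.mk a ha, hU, hs⟩

end Groth.Agent.EtQC.Glob
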