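import Groth.Agent.EtQC.Glob.Cov
import Mathlib.RingTheory.Invariant.Basic
import Mathlib.RingTheory.Ideal.GoingUp

/-!
# The algebra behind symmetric Cech cochains

Alternating cochains on surjective tuples are coboundaries of such, and free actions of finite groups have
elements of trace one.
-/

set_option autoImplicit false

namespace Groth.Agent.EtQC.Glob

section Alt

theorem altSum_map {L A B : Type*} [AddCommGroup A] [AddCommGroup B] (f : A →+ B) {n : ℕ} (c : (Fin n → L) → A)
    (p : Fin (n + 1) → L) : f (altSum c p) = altSum (fun q => f (c q)) p := by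
  simp only [altSum, map_sum, map_zsmul]

theorem altSum_sum {L A ι : Type*} [AddCommGroup A] (t : Finset ι) {n : ℕ} (c : ι → (Fin n → L) → A)
    (p : Fin (n + 1) → L) : altSum (fun q => ∑ i ∈ t, c i q) p = ∑ i ∈ t, altSum (c i) p := by
  simp only [altSum, Finset.smul_sum]
  exact Finset.sum_comm

theorem altSum_comp {L L' A : Type*} [AddCommGroup A] {n : ℕ} (c : (Fin n → L') → A) (g : L → L')
    (p : Fin (n + 1) → L) : altSum (fun q => c (g ∘ q)) p = altSum c (g ∘ p) := rfl

theorem not_surjective_comp_succAbove {n : ℕ} {L : Type*} {p : Fin (n + 1) → L} (h : ¬ Function.Surjective p)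
    (j : Fin (n + 1)) : ¬ Function.Surjective (p ∘ j.succAbove) := fun h' => h h'.of_comp

/-- Cocycles supported on surjective tuples are coboundaries of such cochains. -/
theorem exists_primitive_surj {A : Type*} [AddCommGroup A] : ∀ (k n : ℕ), k ≤ n →
    ∀ γ : (Fin (n + 1) → Fin k) → A, (∀ s, ¬ Function.Surjective s → γ s = 0) → (∀ p, altSum γ p = 0) →
      ∃ β : (Fin n → Fin k) → A, (∀ s, ¬ Function.Surjective s → β s = 0) ∧ ∀ s, altSum β s = γ s := by
  intro k
  induction k with
  | zero => exact fun n _ γ _ _ => ⟨fun _ => 0, fun _ _ => rfl, fun s => (s 0).elim0⟩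
  | succ k ih =>
    intro n hn γ hγ hδ
    obtain ⟨m, rfl⟩ : ∃ m, n = m + 1 := ⟨n - 1, by omega⟩
    let β₀ : (Fin (m + 1) → Fin (k + 1)) → A := fun q => γ (Fin.cons 0 q)
    have hβ₀ : ∀ q, altSum β₀ q = γ q := fun q => by
      have h := altSum_cons γ 0 q
      rw [hδ] at h
      exact (sub_eq_zero.1 h.symm).symm
    have hmiss : ∀ {i : ℕ} (s : Fin i → Fin k), ¬ Function.Surjective (Fin.succ ∘ s) := fun s h => by
      obtain ⟨a, ha⟩ := h 0
      exact Fin.succ_ne_zero _ ha
    obtain ⟨η', hη', hηδ⟩ := ih m (by omega) (fun r => β₀ (Fin.succ ∘ r)) (fun r hr => hγ _ fun hs => hr fun a => by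
      obtain ⟨i, hi⟩ := hs a.succ
      induction i using Fin.cases with
      | zero => exact absurd hi (by simpa using (Fin.succ_ne_zero a).symm)
      | succ i => exact ⟨i, Fin.succ_injective _ (by simpa using hi)⟩) (fun r => by
        rw [altSum_comp, hβ₀]
        exact hγ _ (hmiss _))
    classical
    let η : (Fin m → Fin (k + 1)) → A := fun r =>
      if h : ∃ r' : Fin m → Fin k, r = Fin.succ ∘ r' then η' h.choose else 0
    have hη : ∀ r' : Fin m → Fin k, η (Fin.succ ∘ r') = η' r' := fun r' => by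
      have h : ∃ r'' : Fin m → Fin k, Fin.succ ∘ r' = Fin.succ ∘ r'' := ⟨r', rfl⟩
      simp only [η, dif_pos h]
      exact congrArg η' (funext fun i => Fin.succ_injective _ (congrFun h.choose_spec i).symm)
    refine ⟨fun q => β₀ q - altSum η q, fun q hq => ?_, fun s => ?_⟩
    · by_cases hc : ∃ q' : Fin (m + 1) → Fin k, q = Fin.succ ∘ q'
      · obtain ⟨q', rfl⟩ := hc
        rw [sub_eq_zero, ← altSum_comp]
        simp only [hη]
        exact (hηδ q').symm
      · obtain ⟨a, ha⟩ : ∃ a, ∀ i, q i ≠ a := by simpa [Function.Surjective] using hq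
        have ha0 : a ≠ 0 := by
          rintro rfl
          exact hc ⟨fun i => (q i).pred (ha i), funext fun i => (Fin.succ_pred _ _).symm⟩
        have h1 : β₀ q = 0 := hγ _ fun h => by
          obtain ⟨i, hi⟩ := h a
          induction i using Fin.cases with
          | zero => exact ha0 (by simpa using hi.symm)
          | succ i => exact ha i (by simpa using hi)
        have h2 : ∀ j : Fin (m + 1), η (q ∘ j.succAbove) = 0 := fun j => by
          by_cases hj : ∃ r' : Fin m → Fin k, q ∘ j.succAbove = Fin.succ ∘ r'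
          · simp only [η, dif_pos hj]
            refine hη' _ fun h => ?_
            obtain ⟨i, hi⟩ := h (a.pred ha0)
            have h3 := congrFun hj.choose_spec i
            simp only [Function.comp_apply] at h3
            rw [hi, Fin.succ_pred] at h3
            exact ha _ h3
          · simp only [η, dif_neg hj]
        show β₀ q - altSum η q = 0
        rw [h1, altSum]
        simp [h2]
    · rw [altSum_sub, altSum_altSum, sub_zero, hβ₀]

end Alt

section Trace

variable {G A : Type*} [Group G] [Fintype G] [CommRing A] [MulSemiringAction G A]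

/-- A finite group acting freely has an element of trace one. -/
theorem exists_sum_smul_eq_one
    (h : ∀ g : G, g ≠ 1 → Ideal.span (Set.range fun a : A => a - g • a) = ⊤) :
    ∃ e : A, ∑ g : G, g • e = 1 := by
  classical
  let φ : A →+* (G → A) := Pi.ringHom fun g => MulSemiringAction.toRingHom G A g
  have hφ : ∀ a g, φ a g = g • a := fun a g => rfl
  let P : Subalgebra A (G → A) := Algebra.adjoin A (Set.range φ)
  have hP : ∀ a, φ a ∈ P := fun a => Algebra.subset_adjoin ⟨a, rfl⟩
  have hsep : ∀ g : G, ∃ f : G → A, g ≠ 1 → f ∈ P ∧ f 1 = 1 ∧ f g = 0 := by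
    intro g
    by_cases hg : g = 1
    · exact ⟨0, fun h => absurd hg h⟩
    obtain ⟨r, hr⟩ := Finsupp.mem_ideal_span_range_iff_exists_finsupp.1
      ((Ideal.eq_top_iff_one _).1 (h g hg))
    let f₀ : G → A := r.sum fun a x => x • (algebraMap A (G → A) a - φ a)
    refine ⟨1 - f₀, fun _ => ⟨P.sub_mem P.one_mem (Subalgebra.sum_mem _ fun a _ => P.smul_mem
      (P.sub_mem (P.algebraMap_mem a) (hP a)) _), ?_, ?_⟩⟩
    · show 1 - f₀ 1 = 1
      rw [sub_eq_self]
      simp [f₀, Finsupp.sum, hφ]
    · show 1 - f₀ g = 0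
      rw [sub_eq_zero, ← hr]
      simp [f₀, Finsupp.sum, hφ]
  choose f hf using hsep
  let δ : G → A := ∏ g ∈ Finset.univ.erase 1, f g
  have hδ : δ ∈ P := Subalgebra.prod_mem _ fun g hg => (hf g (Finset.ne_of_mem_erase hg)).1
  have hδ1 : ∀ x, δ x = if x = 1 then 1 else 0 := fun x => by
    simp only [δ, Finset.prod_apply]
    split_ifs with hx
    · subst hx
      exact Finset.prod_eq_one fun g hg => (hf g (Finset.ne_of_mem_erase hg)).2.1
    · exact Finset.prod_eq_zero (Finset.mem_erase.2 ⟨hx, Finset.mem_univ _⟩) (hf x hx).2.2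
  let R := FixedPoints.subring A G
  let tr : A →ₗ[R] R :=
    { toFun := fun a => ⟨∑ g : G, g • a, fun h => by
        rw [Finset.smul_sum]
        simp only [smul_smul]
        exact Fintype.sum_equiv (Equiv.mulLeft h) _ _ fun g => rfl⟩
      map_add' := fun a b => Subtype.ext (by simp [Finset.sum_add_distrib])
      map_smul' := fun r a => Subtype.ext (by
        show ∑ g : G, g • ((r : A) * a) = (r : A) * ∑ g : G, g • a
        rw [Finset.mul_sum]
        exact Finset.sum_congr rfl fun g _ => by rw [smul_mul', r.2 g]) }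
  let I : Ideal R := LinearMap.range tr
  let J : Ideal A := I.map (algebraMap R A)
  let Φ : (G → A) →ₗ[A] A := ∑ g : G, LinearMap.proj g
  have hΦ : ∀ x, Φ x = ∑ g : G, x g := fun x => by simp [Φ]
  have hJ : Subalgebra.toSubmodule P ≤ Submodule.comap Φ J := by
    rw [Algebra.adjoin_eq_span, Submodule.span_le]
    intro x hx
    have hcl : Submonoid.closure (Set.range φ) ≤ MonoidHom.mrange φ.toMonoidHom :=
      Submonoid.closure_le.2 fun _ h => h
    obtain ⟨a, rfl⟩ := hcl hx
    show Φ (φ a) ∈ J
    rw [hΦ]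
    exact Ideal.mem_map_of_mem (algebraMap R A) (x := tr a) ⟨a, rfl⟩
  have hJtop : J = ⊤ := (Ideal.eq_top_iff_one _).2 (by
    have h1 : Φ δ ∈ J := hJ hδ
    simpa [hΦ, hδ1] using h1)
  haveI : Algebra.IsInvariant R A G := ⟨fun b hb => ⟨⟨b, hb⟩, rfl⟩⟩
  have hI : I = ⊤ := (Ideal.map_eq_top_iff (algebraMap R A) (fun _ _ h => Subtype.ext h)
    (Algebra.IsInvariant.isIntegral R A G).isIntegral).1 hJtop
  obtain ⟨e, he⟩ : (1 : R) ∈ I := hI ▸ Submodule.mem_top
  exact ⟨e, congrArg Subtype.val he⟩

end Trace

end Groth.Agent.EtQC.Glob
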