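import Groth.Agent.EtQC.Glob.Dist
import Groth.Agent.EtQC.Glob.SymAlg

/-!
# Cech cochains of a covering by one affine object whose fibres are bounded
-/

set_option autoImplicit false
set_option backward.isDefEq.respectTransparency false
set_option backward.isDefEq.respectTransparency.types false

universe u

set_option maxHeartbeats 1000000

open CategoryTheory CategoryTheory.Limits AlgebraicGeometry Opposite AlgSp TopologicalSpace

namespace Groth.Agent.EtQC.Glob

variable {S : Scheme.{u}} {X : Sp S} (M : ModEt X)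

theorem sect_ext {T : EtOver X} {R : Sieve T} (hR : R ∈ etTop X T) {s t : sectModEt M T}
    (h : ∀ ⦃T' : EtOver X⦄ (g : T' ⟶ T), R g → res M g s = res M g t) : s = t := by
  have hsh := (isSheaf_iff_isSheaf_of_type _ _).1
    ((Presheaf.isSheaf_iff_isSheaf_forget (etTop X) M.val.presheaf (forget AddCommGrpCat.{u + 1})).1 M.isSheaf)
  exact (hsh.isSeparated R hR).ext fun T' g hg => h g hg

theorem sect_glue {T : EtOver X} {R : Sieve T} (hR : R ∈ etTop X T)
    (s : ∀ ⦃T' : EtOver X⦄ (g : T' ⟶ T), R g → sectModEt M T')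
    (hs : ∀ ⦃T' T'' : EtOver X⦄ (g : T' ⟶ T) (h : T'' ⟶ T') (hg : R g),
      res M h (s g hg) = s (h ≫ g) (R.downward_closed hg h)) :
    ∃ t : sectModEt M T, ∀ ⦃T' : EtOver X⦄ (g : T' ⟶ T) (hg : R g), res M g t = s g hg := by
  have hsh := (isSheaf_iff_isSheaf_of_type _ _).1
    ((Presheaf.isSheaf_iff_isSheaf_forget (etTop X) M.val.presheaf (forget AddCommGrpCat.{u + 1})).1 M.isSheaf)
  obtain ⟨t, ht, -⟩ := hsh R hR (fun T' g hg => s g hg) (by
    intro Y₁ Y₂ Z g₁ g₂ f₁ f₂ h₁ h₂ hw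
    show res M g₁ (s f₁ h₁) = res M g₂ (s f₂ h₂)
    rw [hs f₁ g₁ h₁, hs f₂ g₂ h₂]
    congr 1)
  exact ⟨t, fun T' g hg => ht g hg⟩

theorem sect_eq_zero_of_isEmpty {T : EtOver X} (hT : IsEmpty ↥T.obj.left.left) (s : sectModEt M T) : s = 0 :=
  sect_ext M (AlgSpDec.ofArrows_mem_etTop (fun i : PEmpty.{1} => (i.elim : EtOver X)) (fun i => i.elim)
    fun x => hT.elim x) fun T' g hg => by
    obtain ⟨i, -⟩ := (Sieve.mem_ofArrows_iff _ _ _).1 hg
    exact i.elim

variable {V : EtOver X}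

/-- Tuples of maps which pairwise agree or agree nowhere. -/
def Pure {ι : Type*} {T : EtOver X} (q : ι → (T ⟶ V)) : Prop := ∀ i j, q i = q j ∨ Dist (q i) (q j)

theorem Pure.comp {ι : Type*} {T T' : EtOver X} {q : ι → (T ⟶ V)} (h : Pure q) (g : T' ⟶ T) :
    Pure fun i => g ≫ q i :=
  fun i j => (h i j).imp (congrArg (g ≫ ·)) fun e => e.comp g

theorem Pure.exists_classes {N : ℕ} {T : EtOver X} {q : Fin N → (T ⟶ V)} (h : Pure q) :
    ∃ (k : ℕ) (l : Fin k → (T ⟶ V)) (s : Fin N → Fin k), Function.Surjective s ∧ q = l ∘ s ∧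
      ∀ a b, a ≠ b → Dist (l a) (l b) := by
  classical
  let I := Finset.univ.image q
  refine ⟨I.card, fun a => (I.equivFin.symm a).1, fun i => I.equivFin ⟨q i, by simp [I]⟩, fun a => ?_,
    funext fun i => by simp, fun a b hab => ?_⟩
  · obtain ⟨i, -, hi⟩ := Finset.mem_image.1 (I.equivFin.symm a).2
    exact ⟨i, I.equivFin.symm.injective (by simpa [Subtype.ext_iff] using hi)⟩
  · obtain ⟨i, -, hi⟩ := Finset.mem_image.1 (I.equivFin.symm a).2
    obtain ⟨j, -, hj⟩ := Finset.mem_image.1 (I.equivFin.symm b).2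
    show Dist (I.equivFin.symm a).1 (I.equivFin.symm b).1
    rw [← hi, ← hj]
    refine (h i j).resolve_left fun e => hab (I.equivFin.symm.injective (Subtype.ext ?_))
    rw [← hi, ← hj, e]

theorem exists_injective {N k K : ℕ} {T : EtOver X} [Nonempty ↥T.obj.left.left] {l : Fin k → (T ⟶ V)}
    {l' : Fin K → (T ⟶ V)} (hl : ∀ a b, a ≠ b → Dist (l a) (l b)) (hl' : ∀ a b, a ≠ b → Dist (l' a) (l' b))
    {s : Fin N → Fin k} {s' : Fin N → Fin K} (hs' : Function.Surjective s') (e : ∀ i, l (s i) = l' (s' i)) :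
    ∃ σ : Fin K → Fin k, Function.Injective σ ∧ (∀ i, s i = σ (s' i)) ∧ ∀ a, l (σ a) = l' a := by
  choose r hr using hs'
  refine ⟨fun a => s (r a), fun a b hab => ?_, fun i => ?_, fun a => by rw [e, hr]⟩
  · by_contra h
    have h' : l' a = l' b := by rw [← hr a, ← hr b, ← e, ← e]; exact congrArg l hab
    exact (hl' a b h).ne h'
  · by_contra h
    exact (hl _ _ h).ne (by rw [e, e, hr])

/-- Cochains on tuples of maps to one object. -/
abbrev Coc (V : EtOver X) (N : ℕ) : Type (u + 1) := ∀ T : EtOver X, (Fin N → (T ⟶ V)) → sectModEt M T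

variable {M}

/-- Naturality of cochains. -/
def Coc.IsNat {N : ℕ} (c : Coc M V N) : Prop :=
  ∀ (T T' : EtOver X) (a : T' ⟶ T) (q : Fin N → (T ⟶ V)), c T' (fun i => a ≫ q i) = res M a (c T q)

theorem Coc.IsNat.alt {N : ℕ} {c : Coc M V N} (hc : c.IsNat) {T T' : EtOver X} (a : T' ⟶ T)
    (p : Fin (N + 1) → (T ⟶ V)) :
    altSum (c T') (fun i => a ≫ p i) = res M a (altSum (c T) p) := by
  rw [altSum_map, altSum, altSum]
  exact Finset.sum_congr rfl fun j _ => congrArg (fun y => (-1 : ℤ) ^ (j : ℕ) • y) (hc T T' a (p ∘ j.succAbove))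

variable [S.IsSeparated] (hsep : IsSeparatedSp X) [IsAffine V.obj.left.left]

include hsep

/-- Natural values on pure tuples extend to all tuples. -/
theorem exists_extend {N : ℕ} (v : Coc M V N)
    (hv : ∀ (T T' : EtOver X) (a : T' ⟶ T) (q : Fin N → (T ⟶ V)), Pure q →
      v T' (fun i => a ≫ q i) = res M a (v T q)) :
    ∃ b : Coc M V N, b.IsNat ∧ ∀ T q, Pure q → b T q = v T q := by
  have key : ∀ (T : EtOver X) (q : Fin N → (T ⟶ V)), ∃ t : sectModEt M T,
      ∀ (T' : EtOver X) (g : T' ⟶ T), Pure (fun i => g ≫ q i) → res M g t = v T' fun i => g ≫ q i := by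
    intro T q
    obtain ⟨R, hR, hp⟩ := exists_sieve_pure hsep q
    obtain ⟨t, ht⟩ := sect_glue M hR (fun T' g _ => v T' fun i => g ≫ q i) fun T' T'' g h hg => by
      rw [← hv T' T'' h _ (hp g hg)]
      simp only [Category.assoc]
    refine ⟨t, fun T' g hg => sect_ext M ((etTop X).pullback_stable g hR) fun T'' h hh => ?_⟩
    rw [← res_comp, ht _ hh, ← hv T' T'' h _ hg]
    simp only [Category.assoc]
  choose b hb using key
  refine ⟨b, fun T T' a q => ?_, fun T q hq => ?_⟩
  · obtain ⟨R, hR, hp⟩ := exists_sieve_pure hsep fun i => a ≫ q i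
    refine sect_ext M hR fun T'' h hh => ?_
    have e : (fun i => h ≫ a ≫ q i) = fun i => (h ≫ a) ≫ q i := funext fun i => (Category.assoc _ _ _).symm
    have hp' : Pure fun i => h ≫ a ≫ q i := hp h hh
    rw [hb T' _ T'' h hp', ← res_comp, e]
    exact (hb T q T'' (h ≫ a) (e ▸ hp')).symm
  · have e : (fun i => 𝟙 T ≫ q i) = q := funext fun i => Category.id_comp _
    have h := hb T q T (𝟙 T) (e.symm ▸ hq)
    rw [res_id, e] at h
    exact h

variable (V)

/-- The universal tuple of maps agreeing nowhere, which is affine and has the symmetric group acting. -/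
theorem exists_univ_dist (K : ℕ) : ∃ (Y : EtOver X) (y : Fin (K + 1) → (Y ⟶ V)),
    IsAffine Y.obj.left.left ∧ (∀ a b, a ≠ b → Dist (y a) (y b)) ∧
      ∀ (T : EtOver X) (l : Fin (K + 1) → (T ⟶ V)), (∀ a b, a ≠ b → Dist (l a) (l b)) →
        ∃! h : T ⟶ Y, ∀ a, h ≫ y a = l a := by
  obtain ⟨P, π, hP, hu⟩ : ∃ (P : EtOver X) (π : Fin (K + 1) → (P ⟶ V)), IsAffine P.obj.left.left ∧
      ∀ (T : EtOver X) (f : Fin (K + 1) → (T ⟶ V)), ∃! h : T ⟶ P, ∀ a, h ≫ π a = f a := by
    induction K with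
    | zero => exact ⟨V, fun _ => 𝟙 V, ‹_›, fun T f => ⟨f 0, fun a => by
        obtain rfl := Fin.fin_one_eq_zero a; exact Category.comp_id _,
        fun h hh => (Category.comp_id h).symm.trans (hh 0)⟩⟩
    | succ K ih =>
      obtain ⟨P, π, hP, hu⟩ := ih
      haveI := hP
      refine ⟨EtOver.prodObj V P, Fin.cons (EtOver.prodFst V P) (fun a => EtOver.prodSnd V P ≫ π a),
        isAffine_prodObj hsep V P, fun T f => ?_⟩
      obtain ⟨h', hh', huniq'⟩ := hu T fun a => f a.succ
      obtain ⟨h, h1, h2⟩ := BinaryFan.IsLimit.lift' (EtOver.prodIsLimit V P) (f 0) h'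
      have h1' : h ≫ EtOver.prodFst V P = f 0 := h1
      have h2' : h ≫ EtOver.prodSnd V P = h' := h2
      refine ⟨h, fun a => ?_, fun g hg => BinaryFan.IsLimit.hom_ext (EtOver.prodIsLimit V P)
        (show g ≫ EtOver.prodFst V P = h ≫ EtOver.prodFst V P by
          rw [h1']; exact hg 0)
        (show g ≫ EtOver.prodSnd V P = h ≫ EtOver.prodSnd V P by
          rw [h2']; exact huniq' _ fun a => (Category.assoc _ _ _).trans (hg a.succ))⟩
      induction a using Fin.cases with
      | zero => exact h1'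
      | succ a => show h ≫ EtOver.prodSnd V P ≫ π a = f a.succ; rw [← Category.assoc, h2', hh']
  let O : Set ↥P.obj.left.left := ⋂ a, ⋂ b, {x | a ≠ b → x ∉ eqSet (π a) (π b)}
  have hO : IsClopen O := isClopen_iInter_of_finite fun a => isClopen_iInter_of_finite fun b => by
    by_cases hab : a = b
    · simp only [hab, ne_eq, not_true_eq_false, IsEmpty.forall_iff, Set.ofPred_true]
      exact isClopen_univ
    · simp only [ne_eq, hab, not_false_eq_true, forall_const]
      exact (IsClopen.compl ⟨isClosed_eqSet hsep _ _, isOpen_eqSet _ _⟩)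
  let U : P.obj.left.left.Opens := ⟨O, hO.isOpen⟩
  have : IsClosedImmersion U.ι := IsClosedImmersion.of_isPreimmersion _ (by
    rw [Scheme.Opens.range_ι]; exact hO.isClosed)
  have : IsAffine U.toScheme := isAffine_of_isAffineHom U.ι
  refine ⟨AlgSpDec.etOpen P U, fun a => AlgSpDec.etOpenι P U ≫ π a, ‹IsAffine U.toScheme›, fun a b hab x hx => ?_,
    fun T l hl => ?_⟩
  · have h : (AlgSpDec.etOpenι P U).hom.left.left x ∈ O := etOpen_lift U x
    exact Set.mem_iInter₂.1 h a b hab ((mem_eqSet_comp _ _ _ x).2 hx)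
  · obtain ⟨h, hh, huniq⟩ := hu T l
    obtain ⟨g, hg⟩ := exists_into P U h fun x => Set.mem_iInter₂.2 fun a b hab hx => hl a b hab x (by
      rw [← hh a, ← hh b]; exact (mem_eqSet_comp h _ _ x).1 hx)
    exact ⟨g, fun a => by show g ≫ AlgSpDec.etOpenι P U ≫ π a = l a; rw [← Category.assoc, hg, hh],
      fun g' hg' => hom_ext_into P U _ _ ((huniq _ fun a => (Category.assoc _ _ _).trans (hg' a)).trans hg.symm)⟩

end Groth.Agent.EtQC.Glob
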