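import Groth.Agent.EtQC.Glob.Sym
import Groth.Agent.EtQC.Glob.Bound

/-!
# Vanishing of Cech cohomology from the bound on geometric fibres on
-/

set_option autoImplicit false
set_option backward.isDefEq.respectTransparency false
set_option backward.isDefEq.respectTransparency.types false

universe u

set_option maxHeartbeats 1000000

open CategoryTheory CategoryTheory.Limits AlgebraicGeometry Opposite AlgSp TopologicalSpace

namespace Groth.Agent.EtQC.Glob

variable {S : Scheme.{u}} {X : Sp S} {M : ModEt X} {V : EtOver X}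

/-- Vanishing on tuples with few values. -/
def Coc.VanishUpTo {N : ℕ} (c : Coc M V N) (k : ℕ) : Prop :=
  ∀ k' ≤ k, ∀ (T : EtOver X) (l : Fin k' → (T ⟶ V)), (∀ a b, a ≠ b → Dist (l a) (l b)) →
    ∀ s : Fin N → Fin k', c T (fun i => l (s i)) = 0

variable [S.IsSeparated] (hsep : IsSeparatedSp X) [IsAffine V.obj.left.left]

include hsep

/-- One more value. -/
theorem exists_step {N k : ℕ} (hk : k + 1 ≤ N) (c : Coc M V (N + 1)) (hc : c.IsNat)
    (hδ : ∀ T p, altSum (c T) p = 0) (h0 : c.VanishUpTo k) :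
    ∃ b : Coc M V N, b.IsNat ∧ Coc.VanishUpTo (fun T p => c T p - altSum (b T) p) (k + 1) := by
  classical
  obtain ⟨Y, y, hY, hy, hu⟩ := exists_univ_dist V hsep k
  -- the symmetric group acts on the universal tuple
  let G := Equiv.Perm (Fin (k + 1))
  choose φ hφ hφu using fun σ : G => hu Y (fun a => y (σ a))
    fun a b hab => hy _ _ fun e => hab (σ.injective e)
  have hφ1 : φ 1 = 𝟙 Y := (hφu 1 (𝟙 Y) fun a => Category.id_comp _).symm
  have hφm : ∀ σ τ : G, φ (σ * τ) = φ σ ≫ φ τ := fun σ τ => (hφu (σ * τ) (φ σ ≫ φ τ) fun a => by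
    rw [Category.assoc, hφ τ a, hφ σ (τ a)]; rfl).symm
  let act : MulSemiringAction G (Fn Y) :=
    { smul := fun g a => fmap (φ g) a
      one_smul := fun a => by
        show fmap (φ 1) a = a
        rw [hφ1]
        exact congrArg (fun m : Γ(Y.obj.left.left, ⊤) ⟶ Γ(Y.obj.left.left, ⊤) => m.hom a) Scheme.Hom.id_appTop
      mul_smul := fun σ τ a => by
        show fmap (φ (σ * τ)) a = fmap (φ σ) (fmap (φ τ) a)
        rw [hφm]
        exact fmap_comp _ _ a
      smul_zero := fun g => map_zero _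
      smul_add := fun g => map_add _
      smul_one := fun g => map_one _
      smul_mul := fun g => map_mul _ }
  obtain ⟨e, he⟩ : ∃ e : Fn Y, ∑ σ : G, fmap (φ σ) e = 1 := by
    refine @exists_sum_smul_eq_one G (Fn Y) _ _ _ act fun σ hσ => ?_
    obtain ⟨a, ha⟩ : ∃ a, σ a ≠ a := by
      by_contra! h
      exact hσ (Equiv.ext h)
    by_contra htop
    obtain ⟨m, hm, hle⟩ := Ideal.exists_le_maximal _ htop
    let q : Γ(Y.obj.left.left, ⊤) ⟶ CommRingCat.of (Γ(Y.obj.left.left, ⊤) ⧸ m) :=
      CommRingCat.ofHom (Ideal.Quotient.mk m)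
    have hq : (φ σ).hom.left.left.appTop ≫ q = q := CommRingCat.hom_ext (RingHom.ext fun x =>
      (Ideal.Quotient.eq.2 (hle (Ideal.subset_span ⟨x, rfl⟩))).symm)
    let c₀ : Spec (CommRingCat.of (Γ(Y.obj.left.left, ⊤) ⧸ m)) ⟶ Y.obj.left.left :=
      Spec.map q ≫ Y.obj.left.left.isoSpec.inv
    have hc₀ : c₀ ≫ (φ σ).hom.left.left = c₀ := by
      simp only [c₀, Category.assoc, ← Scheme.isoSpec_inv_naturality]
      rw [← Spec.map_comp_assoc, hq]
    let c' : CategoryTheory.Over.mk (c₀ ≫ Y.obj.left.hom) ⟶ Y.obj.left := CategoryTheory.Over.homMk c₀ rfl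
    have hc' : c' ≫ (y (σ a)).hom.left = c' ≫ (y a).hom.left := by
      rw [← hφ σ a]
      refine CategoryTheory.Over.OverMorphism.ext ?_
      show c₀ ≫ (φ σ).hom.left.left ≫ (y a).hom.left.left = c₀ ≫ (y a).hom.left.left
      rw [reassoc_of% hc₀]
    haveI : Nontrivial (Γ(Y.obj.left.left, ⊤) ⧸ m) := Ideal.Quotient.nontrivial_iff.2 hm.ne_top
    obtain ⟨z⟩ : Nonempty ↥(Spec (CommRingCat.of (Γ(Y.obj.left.left, ⊤) ⧸ m))) :=
      inferInstanceAs (Nonempty (PrimeSpectrum _))
    exact hy _ _ ha _ (mem_eqSet_of_comp_eq _ _ c' hc' z)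
  -- the equivariant primitive on the universal tuple
  let γ : (Fin (N + 1) → Fin (k + 1)) → sectModEt M Y := fun s => c Y fun i => y (s i)
  have hγ0 : ∀ s, ¬ Function.Surjective s → γ s = 0 := fun s hs => by
    obtain ⟨a, ha⟩ : ∃ a, ∀ i, s i ≠ a := by simpa [Function.Surjective] using hs
    choose r hr using fun i => Fin.exists_succAbove_eq (ha i)
    show c Y (fun i => y (s i)) = 0
    simp only [← hr]
    exact h0 k le_rfl Y (fun x => y (a.succAbove x)) (fun x x' h => hy _ _ fun e => h (Fin.succAbove_right_injective e)) r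
  obtain ⟨β, hβ0, hβ⟩ := exists_primitive_surj (k + 1) N hk γ hγ0 fun p => hδ Y fun i => y (p i)
  let η : (Fin N → Fin (k + 1)) → sectModEt M Y := fun s =>
    ∑ σ : G, res M (φ σ) (e • β (fun i => σ⁻¹ (s i)))
  have hη0 : ∀ s, ¬ Function.Surjective s → η s = 0 := fun s hs => Finset.sum_eq_zero fun σ _ => by
    rw [hβ0 (fun i => σ⁻¹ (s i)) fun h => hs fun a => (h (σ⁻¹ a)).imp fun i hi => (σ⁻¹).injective hi,
      smul_zero, map_zero]
  have hηeq : ∀ (τ : G) s, res M (φ τ) (η s) = η fun i => τ (s i) := fun τ s => by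
    simp only [η, map_sum, ← res_comp, ← hφm]
    refine Fintype.sum_equiv (Equiv.mulLeft τ) _ _ fun σ => ?_
    simp only [Equiv.coe_mulLeft, mul_inv_rev]
    exact congrArg (fun t => res M (φ (τ * σ)) (e • β t))
      (funext fun i => congrArg (fun x => σ⁻¹ x) (τ.symm_apply_apply (s i)).symm)
  have hηδ : ∀ s, altSum η s = γ s := fun s => by
    have h : ∀ σ : G, altSum (fun q => res M (φ σ) (e • β fun i => σ⁻¹ (q i))) s = fmap (φ σ) e • γ s := fun σ => by
      rw [← altSum_map (res M (φ σ))]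
      refine Eq.trans ?_ (Eq.trans (res_smul M (φ σ) e (γ fun i => σ⁻¹ (s i))) ?_)
      · refine congrArg (res M (φ σ)) ?_
        rw [← hβ, altSum, altSum, Finset.smul_sum]
        exact Finset.sum_congr rfl fun j _ => (smul_comm _ _ _).symm
      · refine congrArg (fun x => fmap (φ σ) e • x) ?_
        show res M (φ σ) (c Y _) = c Y _
        rw [← hc Y Y]
        exact congrArg (c Y) (funext fun i => (hφ σ _).trans (congrArg y (σ.apply_symm_apply _)))
    show altSum (fun q => ∑ σ : G, res M (φ σ) (e • β fun i => σ⁻¹ (q i))) s = γ s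
    rw [altSum_sum, Finset.sum_congr rfl fun σ _ => h σ, ← Finset.sum_smul, he, one_smul]
  -- the values on pure tuples
  let P : ∀ T : EtOver X, (Fin N → (T ⟶ V)) → Prop := fun T q =>
    ∃ (h : T ⟶ Y) (s : Fin N → Fin (k + 1)), Function.Surjective s ∧ ∀ i, q i = h ≫ y (s i)
  let v : Coc M V N := fun T q => if h : P T q then res M h.choose (η h.choose_spec.choose) else 0
  have hdist : ∀ {T : EtOver X} (h : T ⟶ Y) (a b), a ≠ b → Dist (h ≫ y a) (h ≫ y b) :=
    fun h a b hab => (hy a b hab).comp h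
  have hv : ∀ {T : EtOver X} (h : T ⟶ Y) (s : Fin N → Fin (k + 1)), v T (fun i => h ≫ y (s i)) = res M h (η s) := by
    intro T h s
    rcases isEmpty_or_nonempty ↥T.obj.left.left with hT | hT
    · rw [sect_eq_zero_of_isEmpty M hT (v T _), sect_eq_zero_of_isEmpty M hT (res M h _)]
    by_cases hP : P T fun i => h ≫ y (s i)
    · obtain ⟨hs', he'⟩ := hP.choose_spec.choose_spec
      simp only [v, dif_pos hP]
      generalize hP.choose = h', hP.choose_spec.choose = s' at hs' he' ⊢
      obtain ⟨σ, hσ, hσs, hσl⟩ := exists_injective (hdist h) (hdist h') hs' he'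
      let τ : G := Equiv.ofBijective σ (Finite.injective_iff_bijective.1 hσ)
      obtain ⟨g, -, huniq⟩ := hu T (fun a => h' ≫ y a) (hdist h')
      have e1 : h ≫ φ τ = g := huniq _ fun a => by
        rw [Category.assoc, hφ]; exact hσl a
      have e2 : h' = g := huniq h' fun a => rfl
      rw [e2, ← e1, res_comp, hηeq]
      exact congrArg (res M h) (congrArg η (funext fun i => (hσs i).symm))
    · simp only [v, dif_neg hP]
      rw [hη0 s fun hs => hP ⟨h, s, hs, fun i => rfl⟩, map_zero]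
  have hv0 : ∀ {T : EtOver X} {k' : ℕ} (l : Fin k' → (T ⟶ V)), (∀ a b, a ≠ b → Dist (l a) (l b)) →
      Nonempty ↥T.obj.left.left → k' < k + 1 → ∀ s : Fin N → Fin k', v T (fun i => l (s i)) = 0 := by
    intro T k' l hl hT hk' s
    refine dif_neg ?_
    rintro ⟨h, s', hs', e'⟩
    obtain ⟨σ, hσ, -⟩ := exists_injective hl (hdist h) hs' e'
    have := Fintype.card_le_of_injective σ hσ
    simp only [Fintype.card_fin] at this
    omega
  have hvn : ∀ (T T' : EtOver X) (a : T' ⟶ T) (q : Fin N → (T ⟶ V)), Pure q →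
      v T' (fun i => a ≫ q i) = res M a (v T q) := by
    intro T T' a q hq
    rcases isEmpty_or_nonempty ↥T'.obj.left.left with hT | hT
    · rw [sect_eq_zero_of_isEmpty M hT (v T' _), sect_eq_zero_of_isEmpty M hT (res M a _)]
    by_cases hP : P T q
    · obtain ⟨h, s, -, e'⟩ := hP
      obtain rfl : q = fun i => h ≫ y (s i) := funext e'
      simp only [← Category.assoc, hv, res_comp]
    · rw [show v T q = 0 from dif_neg hP, map_zero]
      refine dif_neg ?_
      rintro ⟨h, s', hs', e'⟩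
      obtain ⟨k', l, s, hs, rfl, hl⟩ := hq.exists_classes
      obtain ⟨σ, hσ, hσs, -⟩ := exists_injective (fun x x' hx => (hl x x' hx).comp a) (hdist h) hs' e'
      have hσ' : Function.Surjective σ := fun x => by
        obtain ⟨i, rfl⟩ := hs x
        exact ⟨s' i, (hσs i).symm⟩
      obtain ⟨g, hg, -⟩ := hu T (fun x => l (σ x)) fun x x' hx => hl _ _ fun e => hx (hσ e)
      exact hP ⟨g, s', hs', fun i => by rw [hg, ← hσs]; rfl⟩
  obtain ⟨b, hb, hbv⟩ := exists_extend hsep v hvn
  refine ⟨b, hb, fun k' hk' T l hl s => ?_⟩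
  rcases isEmpty_or_nonempty ↥T.obj.left.left with hT | hT
  · exact sect_eq_zero_of_isEmpty M hT _
  have hface : ∀ j : Fin (N + 1), b T ((fun i => l (s i)) ∘ j.succAbove) = v T fun i => l (s (j.succAbove i)) :=
    fun j => hbv T _ fun x x' => (eq_or_ne (s (j.succAbove x)) (s (j.succAbove x'))).imp (congrArg l)
      (hl _ _)
  show c T (fun i => l (s i)) - altSum (b T) (fun i => l (s i)) = 0
  rcases hk'.lt_or_eq with hlt | rfl
  · rw [h0 k' (by omega) T l hl s, zero_sub, neg_eq_zero, altSum]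
    refine Finset.sum_eq_zero fun j _ => ?_
    rw [hface, hv0 l hl hT hlt, smul_zero]
  · obtain ⟨h, hh, -⟩ := hu T l hl
    rw [sub_eq_zero]
    have e1 : c T (fun i => l (s i)) = res M h (γ s) := by
      simp only [γ]
      rw [← hc Y T]
      exact congrArg (c T) (funext fun i => (hh _).symm)
    rw [e1, ← hηδ, altSum_map, altSum, altSum]
    refine Finset.sum_congr rfl fun j _ => congrArg (fun x => (-1 : ℤ) ^ (j : ℕ) • x) ?_
    rw [hface]
    simp only [← hh, hv]
    rfl

/-- Successive corrections. -/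
theorem exists_vanish {N : ℕ} (c : Coc M V (N + 1)) (hc : c.IsNat) (hδ : ∀ T p, altSum (c T) p = 0) :
    ∀ k ≤ N, ∃ b : Coc M V N, b.IsNat ∧ Coc.VanishUpTo (fun T p => c T p - altSum (b T) p) k := by
  intro k
  induction k with
  | zero =>
    refine fun _ => ⟨fun _ _ => 0, fun _ _ _ _ => (map_zero _).symm, fun k' hk' T l _ s => ?_⟩
    obtain rfl : k' = 0 := by omega
    exact (s 0).elim0
  | succ k ih =>
    intro hk
    obtain ⟨b, hb, hb0⟩ := ih (by omega)
    obtain ⟨b', hb', hb0'⟩ := exists_step hsep hk (fun T p => c T p - altSum (b T) p)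
      (fun T T' a q => by
        show c T' _ - altSum (b T') _ = _
        rw [hc, hb.alt, map_sub])
      (fun T p => by rw [altSum_sub, hδ, altSum_altSum, sub_zero]) hb0
    refine ⟨fun T q => b T q + b' T q, fun T T' a q => ?_, fun k' hk' T l hl s => ?_⟩
    · show b T' _ + b' T' _ = _
      rw [hb, hb', map_add]
    · refine Eq.trans ?_ (hb0' k' hk' T l hl s)
      show c T _ - altSum (fun q => b T q + b' T q) _ = c T _ - altSum (b T) _ - altSum (b' T) _
      simp only [altSum, smul_add, Finset.sum_add_distrib]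
      abel

omit hsep [S.IsSeparated] [IsAffine V.obj.left.left] in
/-- At most as many maps agree nowhere as there are geometric points in the fibres. -/
theorem card_le_of_dist (hX : IsAlgSpace X) {d : ℕ}
    (hd : ∀ p : FieldPt X, p.IsGeometric → ENat.card ((FieldPt.liftsTo p).obj V) ≤ d) {T : EtOver X}
    [hne : Nonempty ↥T.obj.left.left] {k : ℕ} (l : Fin k → (T ⟶ V)) (hl : ∀ a b, a ≠ b → Dist (l a) (l b)) :
    k ≤ d := by
  obtain ⟨x⟩ := hne
  obtain ⟨p, hp, hpx⟩ := AlgSpDec.EtStalkProps.exists_geometric (pt T x)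
  obtain ⟨w, hw⟩ := AlgSpDec.EtStalkStrict.exists_nbhd hX hp T.property hpx.symm
  let c : p.pt ⟶ T.obj.left := w.1
  let F : Fin k → (FieldPt.liftsTo p).obj V := fun a => ⟨c ≫ (l a).hom.left, by
    rw [Functor.map_comp, Category.assoc, EtOver.w (l a)]
    exact w.2⟩
  have hF : Function.Injective F := fun a b e => by
    by_contra hab
    have e' : c ≫ (l a).hom.left = c ≫ (l b).hom.left := congrArg Subtype.val e
    obtain ⟨z⟩ : Nonempty ↥p.pt.left := inferInstanceAs (Nonempty (PrimeSpectrum p.K))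
    exact hl a b hab _ (mem_eqSet_of_comp_eq _ _ c e' z)
  have h := (ENat.card_le_card_of_injective hF).trans (hd p hp)
  simpa [ENat.card_eq_coe_fintype_card] using h

/-- Cech cocycles of degree at least the bound on geometric fibres are coboundaries. -/
theorem exists_primitive (hX : IsAlgSpace X) {d : ℕ}
    (hd : ∀ p : FieldPt X, p.IsGeometric → ENat.card ((FieldPt.liftsTo p).obj V) ≤ d) {N : ℕ} (hN : d ≤ N)
    (c : Coc M V (N + 1)) (hc : c.IsNat) (hδ : ∀ T p, altSum (c T) p = 0) :
    ∃ b : Coc M V N, b.IsNat ∧ ∀ T p, altSum (b T) p = c T p := by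
  obtain ⟨b, hb, h0⟩ := exists_vanish hsep c hc hδ d hN
  refine ⟨b, hb, fun T p => ?_⟩
  obtain ⟨R, hR, hp⟩ := exists_sieve_pure hsep p
  refine sect_ext M hR fun T' g hg => ?_
  rw [← hb.alt, ← hc]
  rcases isEmpty_or_nonempty ↥T'.obj.left.left with hT | hT
  · exact (sect_eq_zero_of_isEmpty M hT _).trans (sect_eq_zero_of_isEmpty M hT _).symm
  obtain ⟨k, l, s, -, e, hl⟩ := Pure.exists_classes (q := fun i => g ≫ p i) (hp g hg)
  rw [e]
  exact (sub_eq_zero.1 (h0 k (card_le_of_dist hX hd l hl) T' l hl s)).symm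

end Groth.Agent.EtQC.Glob
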